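import Cfsg.Agent.KFacts.MulSpor.Class
import Cfsg.Agent.KFacts.QMinus
set_option linter.all false

/-!
# No perfect double cover for groups with one class of involutions and centraliser `2^{1+4}_- : A₅` (helper279)

`noDouble`: a finite group `X` with one class of involutions and an involution `t` with `HasModel t` (the Janko group
`J₃`) has no perfect double cover.
-/

set_option autoImplicit false
set_option linter.style.haveILetI false

namespace Cfsg.Agent.KFacts.MulSpor.J3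

open Subgroup Cfsg.Agent.KFacts.MulTwo Cfsg.Agent.KFacts.MulDef Cfsg.Agent.KFacts.MulSpor.Class
open Cfsg.Agent.J2Type.Model Cfsg.Agent.J2Type.CStruct Cfsg.Agent.J3Type.OneClass

/-! ### Normal form -/

section nf

variable {L : Type*} [Group L] {Z : L} {W : Fin 5 → L}

theorem push (hac : ∀ i j, i ≠ j → W i * W j = Z * (W j * W i)) {k i : Fin 5} (h : k ≠ i) (b : ZMod 2) :
    W k * zp (W i) b = zp Z b * (zp (W i) b * W k) := by
  rcases zmod2_cases b with rfl | rfl
  · rw [zp_zero, zp_zero, one_mul, one_mul, mul_one]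
  · rw [zp_one, zp_one, hac k i h]

theorem bump (hsq : ∀ i, W i * W i = 1) (k : Fin 5) (b : ZMod 2) : W k * zp (W k) b = zp (W k) (1 + b) := by
  rw [zp_add (W k) (hsq k), zp_one]

/-- the elements in normal form -/
def NF (Z : L) (W : Fin 5 → L) (x : L) : Prop := ∃ a b0 b1 b2 b3 : ZMod 2,
  x = zp Z a * (zp (W 0) b0 * (zp (W 1) b1 * (zp (W 2) b2 * zp (W 3) b3)))

variable (hZ : Z * Z = 1) (hZW : ∀ i, W i * Z = Z * W i) (hsq : ∀ i, W i * W i = 1)
  (hac : ∀ i j, i ≠ j → W i * W j = Z * (W j * W i))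

include hZ hZW hsq hac in
theorem nf_mul {x : L} (hx : NF Z W x) : NF Z W (W 0 * x) ∧ NF Z W (W 1 * x) ∧ NF Z W (W 2 * x) ∧ NF Z W (W 3 * x) := by
  obtain ⟨a, b0, b1, b2, b3, rfl⟩ := hx
  have hz : ∀ k b, W k * zp Z b = zp Z b * W k := by
    intro k b
    rcases zmod2_cases b with rfl | rfl
    · rw [zp_zero, one_mul, mul_one]
    · rw [zp_one, hZW]
  have hzc : ∀ k a b, zp (W k) a * zp Z b = zp Z b * zp (W k) a := by
    intro k a b
    rcases zmod2_cases a with rfl | rfl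
    · rw [zp_zero, one_mul, mul_one]
    · rw [zp_one, hz]
  refine ⟨⟨a, 1 + b0, b1, b2, b3, ?_⟩, ⟨a + b0, b0, 1 + b1, b2, b3, ?_⟩, ⟨a + b0 + b1, b0, b1, 1 + b2, b3, ?_⟩,
    ⟨a + b0 + b1 + b2, b0, b1, b2, 1 + b3, ?_⟩⟩
  · rw [← mul_assoc (W 0), hz, mul_assoc, ← mul_assoc (W 0), bump hsq]
  · rw [← mul_assoc (W 1), hz, mul_assoc, ← mul_assoc (W 1), push hac (by decide), mul_assoc, mul_assoc,
      ← mul_assoc (W 1), bump hsq, ← mul_assoc (zp Z a), ← zp_add Z hZ]
  · rw [← mul_assoc (W 2), hz, mul_assoc, ← mul_assoc (W 2), push hac (by decide), mul_assoc, mul_assoc,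
      ← mul_assoc (W 2) (zp (W 1) b1), push hac (by decide), mul_assoc, mul_assoc, ← mul_assoc (W 2), bump hsq,
      ← mul_assoc (zp (W 0) b0) (zp Z b1), hzc, mul_assoc (zp Z b1), ← mul_assoc (zp Z b0), ← zp_add Z hZ,
      ← mul_assoc (zp Z a), ← zp_add Z hZ, add_assoc]
  · rw [← mul_assoc (W 3), hz, mul_assoc, ← mul_assoc (W 3), push hac (by decide), mul_assoc, mul_assoc,
      ← mul_assoc (W 3) (zp (W 1) b1), push hac (by decide), mul_assoc, mul_assoc,
      ← mul_assoc (W 3) (zp (W 2) b2), push hac (by decide), mul_assoc, mul_assoc, bump hsq,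
      ← mul_assoc (zp (W 1) b1) (zp Z b2), hzc, mul_assoc (zp Z b2), ← mul_assoc (zp Z b1), ← zp_add Z hZ,
      ← mul_assoc (zp (W 0) b0) (zp Z (b1 + b2)), hzc, mul_assoc (zp Z (b1 + b2)), ← mul_assoc (zp Z b0),
      ← zp_add Z hZ, ← mul_assoc (zp Z a), ← zp_add Z hZ, add_assoc, add_assoc]

include hZ hZW hsq hac in
theorem nf_all (hprod : W 0 * W 1 * W 2 * W 3 * W 4 = 1) {x : L} (hx : x ∈ closure (Set.range W)) : NF Z W x := by
  have key : ∀ k, ∀ y, NF Z W y → NF Z W (W k * y) := by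
    have h0 : ∀ y, NF Z W y → NF Z W (W 0 * y) := fun y hy => (nf_mul hZ hZW hsq hac hy).1
    have h1 : ∀ y, NF Z W y → NF Z W (W 1 * y) := fun y hy => (nf_mul hZ hZW hsq hac hy).2.1
    have h2 : ∀ y, NF Z W y → NF Z W (W 2 * y) := fun y hy => (nf_mul hZ hZW hsq hac hy).2.2.1
    have h3 : ∀ y, NF Z W y → NF Z W (W 3 * y) := fun y hy => (nf_mul hZ hZW hsq hac hy).2.2.2
    have h4 : W 4 = W 3 * (W 2 * (W 1 * W 0)) := by
      have hi : ∀ i, (W i)⁻¹ = W i := fun i => inv_eq_of_mul_eq_one_left (hsq i)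
      have : W 4 = (W 0 * W 1 * W 2 * W 3)⁻¹ := eq_inv_of_mul_eq_one_right hprod
      rw [this, mul_inv_rev, mul_inv_rev, mul_inv_rev, hi, hi, hi, hi]
    intro k y hy
    fin_cases k
    · exact h0 y hy
    · exact h1 y hy
    · exact h2 y hy
    · exact h3 y hy
    · show NF Z W (W 4 * y)
      have := h3 _ (h2 _ (h1 _ (h0 _ hy)))
      rwa [← mul_assoc, ← mul_assoc, ← mul_assoc, mul_assoc (W 3), mul_assoc (W 3), mul_assoc (W 2), ← h4] at this
  induction hx using closure_induction_left with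
  | one => exact ⟨0, 0, 0, 0, 0, by simp [zp_zero]⟩
  | mul_left y hy w hw ih =>
    obtain ⟨k, rfl⟩ := hy
    exact key k _ ih
  | inv_mul_cancel y hy w hw ih =>
    obtain ⟨k, rfl⟩ := hy
    rw [inv_eq_of_mul_eq_one_left (hsq k)]
    exact key k _ ih

end nf

theorem sp_aux : ∀ b0 b1 b2 b3 : ZMod 2,
    (zp (⟨1, fun j => if j = (0 : Fin 5) then 0 else 1⟩ : SP) b0 *
      (zp (⟨1, fun j => if j = (1 : Fin 5) then 0 else 1⟩ : SP) b1 *
      (zp (⟨1, fun j => if j = (2 : Fin 5) then 0 else 1⟩ : SP) b2 *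
      zp (⟨1, fun j => if j = (3 : Fin 5) then 0 else 1⟩ : SP) b3)) = 1) →
    b0 = 0 ∧ b1 = 0 ∧ b2 = 0 ∧ b3 = 0 := by
  decide +kernel

theorem perm_order : ∀ σ : Equiv.Perm (Fin 5), Equiv.Perm.sign σ = 1 → σ * σ = 1 ∨ σ ^ 3 = 1 ∨ σ ^ 5 = 1 := by
  decide +kernel

theorem perm_two {σ : Equiv.Perm (Fin 5)} (hs : Equiv.Perm.sign σ = 1) {n : ℕ} (hn : σ ^ (2 ^ n) = 1) :
    σ * σ = 1 := by
  have h1 : orderOf σ ∣ 2 ^ n := orderOf_dvd_of_pow_eq_one hn
  have key : ∀ p : ℕ, Nat.Coprime p 2 → σ ^ p = 1 → σ * σ = 1 := by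
    intro p hp h
    have h2 : orderOf σ ∣ p := orderOf_dvd_of_pow_eq_one h
    have h3 : Nat.Coprime p (2 ^ n) := hp.pow_right n
    have h4 : orderOf σ = 1 := Nat.eq_one_of_dvd_one (h3 ▸ Nat.dvd_gcd h2 h1)
    rw [orderOf_eq_one_iff.1 h4, one_mul]
  rcases perm_order σ hs with h | h | h
  · exact h
  · exact key 3 (by decide) h
  · exact key 5 (by decide) h

section main

variable {L X : Type*} [Group L] [Group X] {π : L →* X} {c : L}

theorem map_zp {A B : Type*} [Group A] [Group B] (f : A →* B) (z : A) (a : ZMod 2) : f (zp z a) = zp (f z) a := by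
  rcases zmod2_cases a with rfl | rfl
  · rw [zp_zero, zp_zero, map_one]
  · rw [zp_one, zp_one]

theorem false_of_dbl [Finite L] (hd : Dbl π c) {t : X} (hM : HasModel t)
    (hone : ∀ x y : X, orderOf x = 2 → orderOf y = 2 → IsConj x y) : False := by
  obtain ⟨ht, hcard, Q, v, ρ, M⟩ := hM
  have htt : t * t = 1 := by rw [← pow_two, ← ht, pow_orderOf_eq_one]
  have ht1 : t ≠ 1 := by rintro rfl; rw [orderOf_one] at ht; omega
  have hzc : ((zc t : centralizer ({t} : Set X)) : X) = t := rfl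
  -- facts in `X`
  have hv2 : ∀ i, (v i : X) * v i = 1 := fun i => congrArg Subtype.val (M.v_sq i)
  have hv1 : ∀ i, (v i : X) ≠ 1 := by
    intro i h
    apply v_ne_one M i 0
    rw [zp_zero, one_mul]
    exact Subtype.ext h
  have hvac : ∀ i j, i ≠ j → (v i : X) * v j = t * (v j * v i) := fun i j h => congrArg Subtype.val (M.v_anti i j h)
  have hvt : ∀ i, (v i : X) * t = t * v i := fun i => mem_centralizer_singleton_iff.1 (v i).2
  -- (SQ)
  have hSQ : ∀ a : L, π a * π a = 1 → a * a = 1 := by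
    have e1 : ((v 0 : X) * v 1) * (v 0 * v 1) = t := congrArg Subtype.val (vv_sq M (show (0 : Fin 5) ≠ 1 by decide))
    refine sq_eq_one hd hone (x := (v 0 : X) * v 1) (y := v 2) ?_ ?_ (hv2 2) (hv1 2) ?_ ?_
    · rw [e1, htt]
    · rw [e1]; exact ht1
    · calc (v 0 : X) * v 1 * v 2 = v 0 * (v 1 * v 2) := by group
        _ = v 0 * (t * (v 2 * v 1)) := by rw [hvac 1 2 (by decide)]
        _ = (v 0 * t) * (v 2 * v 1) := by group
        _ = (t * v 0) * (v 2 * v 1) := by rw [hvt]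
        _ = t * (v 0 * v 2) * v 1 := by group
        _ = t * (t * (v 2 * v 0)) * v 1 := by rw [hvac 0 2 (by decide)]
        _ = (t * t) * (v 2 * (v 0 * v 1)) := by group
        _ = v 2 * (v 0 * v 1) := by rw [htt, one_mul]
    · rw [e1]
      intro h
      apply zv_ne_z M 0 2
      rw [zp_zero, one_mul]
      exact Subtype.ext h.symm
  have hC : commutator (centralizer ({t} : Set X)) = ⊤ := Cfsg.Agent.KFacts.QMinus.perfect M
  obtain ⟨τ, hτ⟩ := hd.surj t
  have hV : ∀ i, ∃ x ∈ Cls τ, π x = v i := fun i => exists_lift hd hone ht hτ (hv2 i) (hv1 i)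
  choose V hVc hVπ using hV
  have hV2 : ∀ i, V i * V i = 1 := fun i => hSQ _ (by rw [hVπ, hv2])
  -- the central element
  set Z : L := V 0 * V 1 * (V 0)⁻¹ * (V 1)⁻¹ with hZdef
  have hZπ : π Z = t := by
    rw [hZdef, map_mul, map_mul, map_mul, map_inv, map_inv, hVπ, hVπ, hvac 0 1 (by decide)]
    group
  have hZ2 : Z * Z = 1 := hSQ _ (by rw [hZπ, htt])
  have hZ1 : Z ≠ 1 := by
    intro h
    rw [h, map_one] at hZπ
    exact ht1 hZπ.symm
  have hZc : ∀ g : L, π g * t = t * π g → g * Z = Z * g := fun g hg => comm_of_perfect hd hC hZπ hg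
  have hVt : ∀ i, π (V i) * t = t * π (V i) := fun i => by rw [hVπ]; exact hvt i
  have hVac : ∀ i j, i ≠ j → V i * V j = Z * (V j * V i) := by
    intro i j hij
    obtain ⟨σ, hσ, hi, hj⟩ := Cfsg.Agent.KFacts.QMinus.perm_aux 0 1 i j (by decide) hij
    obtain ⟨k, hk⟩ := Cfsg.Agent.KFacts.QMinus.exists_c M σ hσ
    obtain ⟨g, hg⟩ := hd.surj (k : X)
    have hgt : π g * t = t * π g := by rw [hg]; exact mem_centralizer_singleton_iff.1 k.2
    have h0 : g * V 0 * g⁻¹ = V i := by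
      apply uniq hd hC hτ (conj_mem g (hVc 0)) (hVc i)
      rw [map_mul, map_mul, map_inv, hg, hVπ, hVπ, ← hi]
      exact congrArg Subtype.val (hk 0)
    have h1 : g * V 1 * g⁻¹ = V j := by
      apply uniq hd hC hτ (conj_mem g (hVc 1)) (hVc j)
      rw [map_mul, map_mul, map_inv, hg, hVπ, hVπ, ← hj]
      exact congrArg Subtype.val (hk 1)
    have h2 : Z = V i * V j * (V i)⁻¹ * (V j)⁻¹ := by
      calc Z = (Z * g) * g⁻¹ := by group
        _ = (g * Z) * g⁻¹ := by rw [hZc g hgt]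
        _ = (g * V 0 * g⁻¹) * (g * V 1 * g⁻¹) * (g * V 0 * g⁻¹)⁻¹ * (g * V 1 * g⁻¹)⁻¹ := by
          rw [hZdef]; group
        _ = _ := by rw [h0, h1]
    rw [h2]; group
  -- correct the sign of the product
  obtain ⟨e, heo, hprodV⟩ : ∃ e, (e = 1 ∨ e = c) ∧ V 0 * V 1 * V 2 * V 3 * V 4 = e := by
    refine ⟨_, (hd.ker _).1 ?_, rfl⟩
    rw [map_mul, map_mul, map_mul, map_mul, hVπ, hVπ, hVπ, hVπ, hVπ]
    exact congrArg Subtype.val M.v_prod
  have hec : ∀ x, x * e = e * x := by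
    rcases heo with rfl | rfl
    · intro x; rw [one_mul, mul_one]
    · intro x; exact (hd.cen x).symm
  have hee : e * e = 1 := by
    rcases heo with rfl | rfl
    · exact one_mul _
    · exact hd.sq
  have heπ : π e = 1 := (hd.ker e).2 heo
  let W : Fin 5 → L := fun i => e * V i
  have hWdef : ∀ i, W i = e * V i := fun _ => rfl
  have hWπ : ∀ i, π (W i) = v i := fun i => by rw [hWdef, map_mul, heπ, one_mul, hVπ]
  have hW2 : ∀ i, W i * W i = 1 := fun i => hSQ _ (by rw [hWπ, hv2])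
  have hWac : ∀ i j, i ≠ j → W i * W j = Z * (W j * W i) := by
    intro i j hij
    have h1 : ∀ a b : L, e * a * (e * b) = a * b := by
      intro a b
      calc e * a * (e * b) = e * (a * e) * b := by group
        _ = e * (e * a) * b := by rw [hec]
        _ = (e * e) * (a * b) := by group
        _ = a * b := by rw [hee, one_mul]
    rw [hWdef, hWdef, h1, h1, hVac i j hij]
  have hWt : ∀ i, π (W i) * t = t * π (W i) := fun i => by rw [hWπ]; exact hvt i
  have hZW : ∀ i, W i * Z = Z * W i := fun i => hZc _ (hWt i)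
  have hWprod : W 0 * W 1 * W 2 * W 3 * W 4 = 1 := by
    have h1 : W 0 * W 1 * W 2 * W 3 * W 4 = e * (V 0 * V 1 * V 2 * V 3 * V 4) := by
      simp only [hWdef]
      have h2 : ∀ a b : L, e * a * (e * b) = a * b := by
        intro a b
        calc e * a * (e * b) = e * (a * e) * b := by group
          _ = e * (e * a) * b := by rw [hec]
          _ = (e * e) * (a * b) := by group
          _ = a * b := by rw [hee, one_mul]
      rw [h2, ← mul_assoc (V 0 * V 1) e, hec, mul_assoc e, h2, ← mul_assoc (V 0 * V 1 * V 2 * V 3) e, hec, mul_assoc e]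
    rw [h1, hprodV, hee]
  set Q₁ : Subgroup L := closure (Set.range W) with hQ₁
  have hWQ : ∀ i, W i ∈ Q₁ := fun i => subset_closure ⟨i, rfl⟩
  have hZQ : Z ∈ Q₁ := by
    have h1 : Z = W 0 * W 1 * (W 0)⁻¹ * (W 1)⁻¹ := by
      rw [hWac 0 1 (by decide)]; group
    rw [h1]
    exact mul_mem (mul_mem (mul_mem (hWQ 0) (hWQ 1)) (inv_mem (hWQ 0))) (inv_mem (hWQ 1))
  -- `c ∉ Q₁`
  have hcQ : c ∉ Q₁ := by
    intro hc
    obtain ⟨a, b0, b1, b2, b3, h⟩ := nf_all hZ2 hZW hW2 hWac hWprod hc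
    have h1 := congrArg π h
    rw [(hd.ker c).2 (Or.inr rfl), map_mul, map_mul, map_mul, map_mul, map_zp, map_zp, map_zp, map_zp, map_zp, hZπ,
      hWπ, hWπ, hWπ, hWπ] at h1
    have h2 : (1 : centralizer ({t} : Set X)) = zp (zc t) a * (zp (v 0) b0 * (zp (v 1) b1 * (zp (v 2) b2 *
        zp (v 3) b3))) := by
      apply Subtype.ext
      show (1 : X) = (centralizer ({t} : Set X)).subtype (zp (zc t) a * (zp (v 0) b0 * (zp (v 1) b1 * (zp (v 2) b2 *
        zp (v 3) b3))))
      rw [map_mul, map_mul, map_mul, map_mul, map_zp, map_zp, map_zp, map_zp, map_zp]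
      exact h1
    have h3 := congrArg ρ h2
    rw [map_one, map_mul, map_mul, map_mul, map_mul, map_zp, map_zp, map_zp, map_zp, map_zp,
      rho_v M, rho_v M, rho_v M, rho_v M, rho_z M] at h3
    have h4 : zp (1 : SP) a = 1 := by
      rcases zmod2_cases a with rfl | rfl
      · exact zp_zero _
      · exact zp_one _
    rw [h4, one_mul] at h3
    obtain ⟨rfl, rfl, rfl, rfl⟩ := sp_aux b0 b1 b2 b3 h3.symm
    rw [zp_zero, zp_zero, zp_zero, zp_zero, mul_one, mul_one, mul_one, mul_one] at h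
    rcases zmod2_cases a with rfl | rfl
    · rw [zp_zero] at h
      exact hd.ne h
    · rw [zp_one] at h
      rw [← h, (hd.ker c).2 (Or.inr rfl)] at hZπ
      exact ht1 hZπ.symm
  -- `Q₁` is normalised by the preimage of `C(t)`
  have hconjW : ∀ g : L, π g * t = t * π g → ∀ i, g * W i * g⁻¹ ∈ Q₁ := by
    intro g hg i
    have h1 := M.conj (⟨π g, mem_centralizer_singleton_iff.2 hg⟩ : centralizer ({t} : Set X)) i
    set s := (ρ ⟨π g, mem_centralizer_singleton_iff.2 hg⟩).s i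
    set k := (ρ ⟨π g, mem_centralizer_singleton_iff.2 hg⟩).σ i
    have h2 : π (g * V i * g⁻¹) = ((zp (zc t) s * v k : centralizer ({t} : Set X)) : X) := by
      rw [← h1, map_mul, map_mul, map_inv, hVπ]; rfl
    have h3 : g * V i * g⁻¹ = zp Z s * V k := by
      rcases zmod2_cases s with hs | hs
      · rw [hs, zp_zero, one_mul] at h2 ⊢
        exact uniq hd hC hτ (conj_mem g (hVc i)) (hVc k) (by rw [h2, hVπ])
      · rw [hs, zp_one] at h2 ⊢
        obtain ⟨j, hj⟩ : ∃ j : Fin 5, j ≠ k := by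
          rcases eq_or_ne k 0 with h | h
          · exact ⟨1, by rw [h]; decide⟩
          · exact ⟨0, h.symm⟩
        have h4 : V j * V k * (V j)⁻¹ = Z * V k := by
          rw [hVac j k hj]; group
        rw [← h4]
        refine uniq hd hC hτ (conj_mem g (hVc i)) (conj_mem _ (hVc k)) ?_
        rw [h2, h4, map_mul, hZπ, hVπ]; rfl
    have h5 : g * W i * g⁻¹ = zp Z s * W k := by
      rw [hWdef, hWdef]
      calc g * (e * V i) * g⁻¹ = (g * e) * V i * g⁻¹ := by group
        _ = (e * g) * V i * g⁻¹ := by rw [hec]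
        _ = e * (g * V i * g⁻¹) := by group
        _ = e * (zp Z s * V k) := by rw [h3]
        _ = (e * zp Z s) * V k := by group
        _ = (zp Z s * e) * V k := by rw [hec]
        _ = _ := by group
    rw [h5]
    exact mul_mem (zp_mem Q₁ Z hZQ s) (hWQ k)
  have hnorm : ∀ g : L, π g * t = t * π g → ∀ x ∈ Q₁, g * x * g⁻¹ ∈ Q₁ := by
    intro g hg x hx
    induction hx using closure_induction with
    | mem x hx =>
      obtain ⟨i, rfl⟩ := hx
      exact hconjW g hg i
    | one => rw [mul_one, mul_inv_cancel]; exact one_mem _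
    | mul x y _ _ ihx ihy =>
      have : g * (x * y) * g⁻¹ = (g * x * g⁻¹) * (g * y * g⁻¹) := by group
      rw [this]; exact mul_mem ihx ihy
    | inv x _ ih =>
      have : g * x⁻¹ * g⁻¹ = (g * x * g⁻¹)⁻¹ := by group
      rw [this]; exact inv_mem ih
  -- `Q` lifts to `Q₁`
  have hQlift : ∀ q ∈ Q, ∃ y ∈ Q₁, π y = (q : X) := by
    have h1 : Q ≤ (Q₁.map π).comap (centralizer ({t} : Set X)).subtype := by
      apply Cfsg.Agent.KFacts.QMinus.Q_le M
      intro i
      exact ⟨W i, hWQ i, hWπ i⟩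
    intro q hq
    obtain ⟨y, hy, hy'⟩ := h1 hq
    exact ⟨y, hy, hy'⟩
  -- outer involutions
  obtain ⟨g0, hg0⟩ := isConj_iff.1 (hone t (v 0 : X) ht (orderOf_eq_prime (by rw [pow_two, hv2]) (hv1 0)))
  obtain ⟨u, hu, huQ⟩ := exists_outer M 0 ⟨g0, hg0⟩
  obtain ⟨T, hcT, hTt⟩ := exists_sylow hd hone ht
  refine false_of_squares hd.toCtr hcT T.not_dvd_index (Q₁ := Q₁ ⊓ T) inf_le_right ?_ (fun h => hcQ h.1)
  intro x hx
  refine ⟨?_, mul_mem hx hx⟩
  have hxt := hTt x hx
  set k : centralizer ({t} : Set X) := ⟨π x, mem_centralizer_singleton_iff.2 hxt⟩ with hk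
  have hs : Equiv.Perm.sign (ρ k).σ = 1 := ((M.range (ρ k)).1 ⟨k, rfl⟩).1
  have hσ : (ρ k).σ * (ρ k).σ = 1 := by
    obtain ⟨n, hn⟩ := T.isPGroup' ⟨x, hx⟩
    have hn' : x ^ (2 ^ n) = 1 := congrArg Subtype.val hn
    have hk1 : k ^ (2 ^ n) = 1 := by
      apply Subtype.ext
      rw [SubmonoidClass.coe_pow]
      show π x ^ (2 ^ n) = 1
      rw [← map_pow, hn', map_one]
    apply perm_two hs (n := n)
    have h1 : ∀ m : ℕ, (ρ k ^ m).σ = (ρ k).σ ^ m := by
      intro m
      induction m with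
      | zero => rw [pow_zero, pow_zero]; rfl
      | succ m ih => rw [pow_succ, pow_succ, mul_σ, ih]
    rw [← h1, ← map_pow, hk1, map_one]; rfl
  -- an involution in the coset
  obtain ⟨w, hw2, hwσ⟩ : ∃ w : centralizer ({t} : Set X), w * w = 1 ∧ (ρ w).σ = (ρ k).σ := by
    by_cases h1 : (ρ k).σ = 1
    · exact ⟨1, one_mul _, by rw [h1, map_one]; rfl⟩
    · obtain ⟨w, hw⟩ := (M.range ⟨(ρ k).σ, fun _ => 0⟩).2 ⟨hs, by simp⟩
      refine ⟨w, sq_of_rho_sq M hu huQ ?_ ?_, by rw [hw]⟩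
      · rw [hw]
        apply SP.ext
        · rw [mul_σ, hσ]; rfl
        · funext i
          rw [mul_s]
          show (0 : ZMod 2) + 0 = 0
          rw [add_zero]
      · rw [hw]; exact h1
  obtain ⟨U, hU⟩ := hd.surj (w : X)
  have hU2 : U * U = 1 := hSQ _ (by rw [hU]; exact congrArg Subtype.val hw2)
  have hUt : π U * t = t * π U := by rw [hU]; exact mem_centralizer_singleton_iff.1 w.2
  have hkw : k * w⁻¹ ∈ Q := by
    rw [M.mem_Q, map_mul, map_inv, mul_σ, inv_σ, hwσ, mul_inv_cancel]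
  obtain ⟨y', hy', hπy⟩ := hQlift _ hkw
  have hxy : π (x * U⁻¹) = π y' := by
    rw [hπy, map_mul, map_inv, hU]; rfl
  have hUi : U⁻¹ = U := inv_eq_of_mul_eq_one_left hU2
  have e1 : ∀ f : L, (∀ y, y * f = f * y) → f * f = 1 → x * U⁻¹ = f * y' → x * x ∈ Q₁ := by
    intro f hf hff h
    have h1 : x = f * y' * U := by rw [← h]; group
    have h2 : x * x = y' * (U * y' * U⁻¹) := by
      rw [h1]
      calc f * y' * U * (f * y' * U) = f * y' * (U * f) * y' * U := by group
        _ = f * y' * (f * U) * y' * U := by rw [hf]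
        _ = f * (y' * f) * U * y' * U := by group
        _ = f * (f * y') * U * y' * U := by rw [hf]
        _ = (f * f) * (y' * (U * y' * U)) := by group
        _ = _ := by rw [hff, one_mul, hUi]
    rw [h2]
    exact mul_mem hy' (hnorm U hUt y' hy')
  rcases eq_or hd hxy with h | h
  · exact e1 1 (fun y => by rw [one_mul, mul_one]) (one_mul _) (by rw [one_mul]; exact h)
  · exact e1 c (fun y => (hd.cen y).symm) hd.sq h

end main

/-- **The 2-part of the Schur multiplier of `J₃` is trivial** (form: one class of involutions and a model of the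
centraliser). -/
theorem noDouble {X : Type*} [Group X] {t : X} (hM : HasModel t)
    (hone : ∀ x y : X, orderOf x = 2 → orderOf y = 2 → IsConj x y) : NoDouble X :=
  fun _ _ _ _ _ hd => false_of_dbl hd hM hone

end Cfsg.Agent.KFacts.MulSpor.J3
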