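import Mathlib
import Cfsg.Agent.KFacts.MulTwo
import Cfsg.Agent.Schreier.CoThreeCent
import Cfsg.Agent.KFacts.MulDef
set_option linter.all false

-- part: KFacts/MulSpor/AffAlt
section
-- merged: Cfsg.Agent.KFacts.MulSpor.Fpf
section

/-!
# An invariant complement from fixed-point-free elements

`A` is an elementary abelian subgroup containing a central element `c ≠ 1` of the ambient group, `P` normalises `A`, and
`D ⊆ P` is a `P`-invariant set of elements which act on `A` with order dividing three and with fixed points `{1, c}`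
only. If `D` is connected under the relation "the actions on `A` commute", then `⟨c⟩` has a `P`-invariant complement in
`A`.
-/

set_option autoImplicit false

namespace Cfsg.Agent.KFacts.MulSpor.Fpf

open Subgroup

variable {L : Type*} [Group L] {c : L} {A P : Subgroup L} {D : Set L}

/-- The relation "the actions on `A` commute". -/
def Rel (A : Subgroup L) (D : Set L) (x y : L) : Prop :=
  x ∈ D ∧ y ∈ D ∧ ∀ a ∈ A, x * (y * a * y⁻¹) * x⁻¹ = y * (x * a * x⁻¹) * y⁻¹

/-- Standing hypotheses. -/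
structure Hyp (c : L) (A P : Subgroup L) (D : Set L) : Prop where
  ne : c ≠ 1
  cen : ∀ x : L, c * x = x * c
  cA : c ∈ A
  sqA : ∀ a ∈ A, a * a = 1
  norm : ∀ g ∈ P, ∀ a ∈ A, g * a * g⁻¹ ∈ A
  DP : D ⊆ P
  conj : ∀ g ∈ P, ∀ d ∈ D, g * d * g⁻¹ ∈ D
  three : ∀ d ∈ D, ∀ a ∈ A, d * (d * (d * a * d⁻¹) * d⁻¹) * d⁻¹ = a
  fpf : ∀ d ∈ D, ∀ a ∈ A, d * a * d⁻¹ = a → a = 1 ∨ a = c

namespace Hyp

variable (H : Hyp c A P D)
include H

theorem comm {x y : L} (hx : x ∈ A) (hy : y ∈ A) : x * y = y * x := by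
  have h1 := H.sqA _ (mul_mem hx hy)
  have h2 : (x * y)⁻¹ = x * y := inv_eq_of_mul_eq_one_left h1
  rw [← h2, mul_inv_rev, inv_eq_of_mul_eq_one_left (H.sqA x hx), inv_eq_of_mul_eq_one_left (H.sqA y hy)]

/-- The map `a ↦ [d, a]`. -/
noncomputable def f {d : L} (hd : d ∈ D) : A →* L where
  toFun a := d * a * d⁻¹ * a
  map_one' := by simp
  map_mul' := by
    intro a b
    have h1 : d * (b : L) * d⁻¹ ∈ A := H.norm d (H.DP hd) b b.2
    show d * ((a * b : A) : L) * d⁻¹ * ((a * b : A) : L) = d * a * d⁻¹ * a * (d * b * d⁻¹ * b)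
    rw [coe_mul]
    calc d * (a * b : L) * d⁻¹ * (a * b) = (d * a * d⁻¹) * (d * b * d⁻¹ * a) * b := by group
      _ = (d * a * d⁻¹) * (a * (d * b * d⁻¹)) * b := by rw [H.comm h1 a.2]
      _ = _ := by group

theorem f_apply {d : L} (hd : d ∈ D) (a : A) : H.f hd a = d * a * d⁻¹ * a := rfl

theorem f_mem {d : L} (hd : d ∈ D) (a : A) : H.f hd a ∈ A :=
  mul_mem (H.norm d (H.DP hd) a a.2) a.2

theorem range_le {d : L} (hd : d ∈ D) : (H.f hd).range ≤ A := by
  rintro _ ⟨a, rfl⟩
  exact H.f_mem hd a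

theorem c_not_mem {d : L} (hd : d ∈ D) : c ∉ (H.f hd).range := by
  rintro ⟨a, ha⟩
  rw [H.f_apply hd] at ha
  have haa := H.sqA a a.2
  have hcc := H.sqA c H.cA
  have h1 : d * (a : L) * d⁻¹ = c * a := by
    rw [← ha, mul_assoc (d * (a : L) * d⁻¹), haa, mul_one]
  have h2 : ∀ x : L, d * (c * x) * d⁻¹ = c * (d * x * d⁻¹) := by
    intro x
    rw [← mul_assoc, ← mul_assoc, ← mul_assoc, ← H.cen d]
  have h3 := H.three d hd a a.2
  have h4 : d * (d * (a : L) * d⁻¹) * d⁻¹ = a := by
    rw [h1, h2, h1, ← mul_assoc c c, hcc, one_mul]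
  rw [h4, h1] at h3
  exact H.ne (mul_eq_right.1 h3)

theorem ker_eq {d : L} (hd : d ∈ D) (a : A) : a ∈ (H.f hd).ker ↔ (a : L) = 1 ∨ (a : L) = c := by
  rw [MonoidHom.mem_ker, H.f_apply hd]
  have haa := H.sqA a a.2
  constructor
  · intro h
    apply H.fpf d hd a a.2
    have : d * (a : L) * d⁻¹ = (a : L)⁻¹ := eq_inv_of_mul_eq_one_left h
    rw [this, inv_eq_of_mul_eq_one_left haa]
  · rintro (h | h)
    · rw [h]; group
    · rw [h, ← H.cen d, mul_assoc c d, mul_inv_cancel, mul_one]
      exact H.sqA c H.cA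

theorem card_ker {d : L} (hd : d ∈ D) : Nat.card (H.f hd).ker = 2 := by
  rw [Nat.card_eq_two_iff]
  refine ⟨1, ⟨⟨c, H.cA⟩, (H.ker_eq hd _).2 (Or.inr rfl)⟩, ?_, ?_⟩
  · intro h
    have h' : (1 : L) = c := congrArg (fun x : (H.f hd).ker => ((x : A) : L)) h
    exact H.ne h'.symm
  · ext x
    simp only [Set.mem_insert_iff, Set.mem_singleton_iff, Set.mem_univ, iff_true]
    rcases (H.ker_eq hd x).1 x.2 with h | h
    · left; exact Subtype.ext (Subtype.ext h)
    · right; exact Subtype.ext (Subtype.ext h)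

theorem card_range [Finite L] {d : L} (hd : d ∈ D) : Nat.card A = 2 * Nat.card (H.f hd).range := by
  have h1 := Subgroup.card_eq_card_quotient_mul_card_subgroup (H.f hd).ker
  rw [H.card_ker hd, Nat.card_congr (QuotientGroup.quotientKerEquivRange (H.f hd)).toEquiv] at h1
  rw [h1, mul_comm]

theorem mem_or [Finite L] {d : L} (hd : d ∈ D) {a : L} (ha : a ∈ A) :
    a ∈ (H.f hd).range ∨ c * a ∈ (H.f hd).range := by
  have hle := H.range_le hd
  have h2 : ((H.f hd).range.subgroupOf A).index = 2 := by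
    have h1 := ((H.f hd).range.subgroupOf A).card_mul_index
    have h3 := H.card_range hd
    rw [h3, Nat.card_congr (subgroupOfEquivOfLe hle).toEquiv, mul_comm] at h1
    have h4 : 0 < Nat.card (H.f hd).range := Nat.card_pos
    exact Nat.eq_of_mul_eq_mul_right h4 h1
  by_cases h : a ∈ (H.f hd).range
  · exact Or.inl h
  · right
    have := (Subgroup.mul_mem_iff_of_index_two h2 (a := ⟨c, H.cA⟩) (b := ⟨a, ha⟩)).2
      (iff_of_false (fun h' => H.c_not_mem hd h') (fun h' => h h'))
    exact this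

theorem range_le_of_rel [Finite L] {x y : L} (hx : x ∈ D) (hy : y ∈ D)
    (h : ∀ a ∈ A, x * (y * a * y⁻¹) * x⁻¹ = y * (x * a * x⁻¹) * y⁻¹) : (H.f hx).range ≤ (H.f hy).range := by
  have hinv : ∀ u ∈ (H.f hx).range, y * u * y⁻¹ ∈ (H.f hx).range := by
    rintro _ ⟨a, rfl⟩
    refine ⟨⟨y * a * y⁻¹, H.norm y (H.DP hy) a a.2⟩, ?_⟩
    rw [H.f_apply hx, H.f_apply hx]
    show x * (y * a * y⁻¹) * x⁻¹ * (y * a * y⁻¹) = y * (x * a * x⁻¹ * a) * y⁻¹
    rw [h a a.2]; group
  let g : (H.f hx).range → (H.f hx).range := fun u => ⟨y * u * y⁻¹ * u, mul_mem (hinv u u.2) u.2⟩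
  have hg : Function.Injective g := by
    intro u v huv
    have hu : (u : L) ∈ A := H.range_le hx u.2
    have hv : (v : L) ∈ A := H.range_le hx v.2
    have huv' : y * (u : L) * y⁻¹ * u = y * v * y⁻¹ * v := congrArg Subtype.val huv
    have h1 : H.f hy ⟨u, hu⟩ = H.f hy ⟨v, hv⟩ := huv'
    have h2 : (⟨u, hu⟩ : A) * ⟨v, hv⟩ ∈ (H.f hy).ker := by
      rw [MonoidHom.mem_ker, map_mul, h1, ← map_mul]
      have : (⟨v, hv⟩ : A) * ⟨v, hv⟩ = 1 := Subtype.ext (H.sqA v hv)
      rw [this, map_one]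
    rcases (H.ker_eq hy _).1 h2 with h3 | h3
    · apply Subtype.ext
      have : (u : L) * v = 1 := h3
      rw [eq_inv_of_mul_eq_one_left this, inv_eq_of_mul_eq_one_left (H.sqA v hv)]
    · exfalso
      have h4 : (u : L) * v ∈ (H.f hx).range := mul_mem u.2 v.2
      have h5 : (u : L) * v = c := h3
      exact H.c_not_mem hx (Eq.mp (congrArg (fun w => w ∈ (H.f hx).range) h5) h4)
  have hgs : Function.Surjective g := Finite.surjective_of_injective hg
  intro u hu
  obtain ⟨v, hv⟩ := hgs ⟨u, hu⟩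
  exact ⟨⟨v, H.range_le hx v.2⟩, congrArg Subtype.val hv⟩

theorem range_eq_of_rel [Finite L] {x y : L} (hx : x ∈ D) (hy : y ∈ D)
    (h : ∀ a ∈ A, x * (y * a * y⁻¹) * x⁻¹ = y * (x * a * x⁻¹) * y⁻¹) : (H.f hx).range = (H.f hy).range :=
  le_antisymm (H.range_le_of_rel hx hy h) (H.range_le_of_rel hy hx fun a ha => (h a ha).symm)

/-- **The complement.** -/
theorem exists_compl [Finite L] {d₀ : L} (hd₀ : d₀ ∈ D)
    (conn : ∀ d ∈ D, Relation.ReflTransGen (Rel A D) d₀ d) :
    ∃ A₁ : Subgroup L, A₁ ≤ A ∧ (∀ g ∈ P, ∀ a ∈ A₁, g * a * g⁻¹ ∈ A₁) ∧ c ∉ A₁ ∧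
      ∀ a ∈ A, a ∈ A₁ ∨ c * a ∈ A₁ := by
  have heq : ∀ d (hd : d ∈ D), (H.f hd).range = (H.f hd₀).range := by
    intro d hd
    have h1 := conn d hd
    induction h1 with
    | refl => rfl
    | tail _ h2 ih => exact (H.range_eq_of_rel h2.1 h2.2.1 h2.2.2).symm.trans (ih h2.1)
  refine ⟨(H.f hd₀).range, H.range_le hd₀, ?_, H.c_not_mem hd₀, fun a ha => H.mem_or hd₀ ha⟩
  rintro g hg _ ⟨a, rfl⟩
  have h1 : g * d₀ * g⁻¹ ∈ D := H.conj g hg d₀ hd₀
  rw [← heq _ h1]
  refine ⟨⟨g * a * g⁻¹, H.norm g hg a a.2⟩, ?_⟩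
  rw [H.f_apply h1, H.f_apply hd₀]
  show g * d₀ * g⁻¹ * (g * a * g⁻¹) * (g * d₀ * g⁻¹)⁻¹ * (g * a * g⁻¹) = g * (d₀ * a * d₀⁻¹ * a) * g⁻¹
  group

end Hyp

end Cfsg.Agent.KFacts.MulSpor.Fpf

end

-- merged: Cfsg.Agent.KFacts.MulSpor.AffAlt
section

/-!
# Central extensions by an involution: subgroups of shape `2^k : A_n` of odd index

* `exists_section` : a central extension of `A_n`, `n ≥ 5`, by a group of order two splits if an involution of `A_n`
  with two orbits of length two lifts to an involution.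
* `Aff.false` : no perfect group with a central involution `c` has a subgroup `P` of odd index with a map `ρ` onto
  `A_n`, `n ≥ 8`, such that the kernel `A ∋ c` of `ρ` is elementary abelian, the elements over three-cycles have no
  fixed points on `A` outside `⟨c⟩`, and some involution lies over a double transposition.
-/

set_option autoImplicit false

namespace Cfsg.Agent.KFacts.MulSpor.AffAlt

open Subgroup Equiv
open Cfsg.Agent.KFacts.MulTwo
open Cfsg.Agent.SporadicRecognition.AltCover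
open Cfsg.Agent.Lib.AltCarmichael

/-! ### Double transpositions -/

section dt

variable {α : Type*} [Fintype α] [DecidableEq α]

omit [Fintype α] in
theorem swap_mul_swap_comm {a b c d : α} (hac : a ≠ c) (had : a ≠ d) (hbc : b ≠ c) (hbd : b ≠ d) :
    swap a b * swap c d = swap c d * swap a b := by
  have h := Equiv.swap_apply_apply (swap a b) c d
  rw [swap_apply_of_ne_of_ne hac.symm hbc.symm, swap_apply_of_ne_of_ne had.symm hbd.symm, swap_inv] at h
  calc swap a b * swap c d = swap a b * swap c d * (swap a b * swap a b) := by rw [swap_mul_self, mul_one]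
    _ = (swap a b * swap c d * swap a b) * swap a b := by group
    _ = _ := by rw [← h]

/-- Two products of two disjoint transpositions are conjugate in the alternating group. -/
theorem exists_conj {a b c d a' b' c' d' : α} (hab : a ≠ b) (hac : a ≠ c) (had : a ≠ d) (hbc : b ≠ c)
    (hbd : b ≠ d) (hcd : c ≠ d) (hab' : a' ≠ b') (hac' : a' ≠ c') (had' : a' ≠ d') (hbc' : b' ≠ c')
    (hbd' : b' ≠ d') (hcd' : c' ≠ d') :
    ∃ g : Perm α, g ∈ alternatingGroup α ∧ g * (swap a b * swap c d) * g⁻¹ = swap a' b' * swap c' d' := by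
  -- a permutation with the prescribed values
  let f : Fin 4 → α := ![a, b, c, d]
  let f' : Fin 4 → α := ![a', b', c', d']
  have hf : Function.Injective f := by
    intro i j
    fin_cases i <;> fin_cases j <;>
      simp [f, hab, hac, had, hbc, hbd, hcd, hab.symm, hac.symm, had.symm, hbc.symm, hbd.symm, hcd.symm]
  have hf' : Function.Injective f' := by
    intro i j
    fin_cases i <;> fin_cases j <;>
      simp [f', hab', hac', had', hbc', hbd', hcd', hab'.symm, hac'.symm, had'.symm, hbc'.symm, hbd'.symm,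
        hcd'.symm]
  obtain ⟨g, hg⟩ : ∃ g : Perm α, ∀ i, g (f i) = f' i := by
    classical
    let e : Set.range f ≃ Set.range f' := (Equiv.ofInjective f hf).symm.trans (Equiv.ofInjective f' hf')
    refine ⟨e.extendSubtype, fun i => ?_⟩
    have h1 := e.extendSubtype_apply_of_mem (f i) ⟨i, rfl⟩
    rw [h1]
    show ((Equiv.ofInjective f' hf') ((Equiv.ofInjective f hf).symm ⟨f i, _⟩) : α) = f' i
    have h2 : (Equiv.ofInjective f hf).symm ⟨f i, ⟨i, rfl⟩⟩ = i := by
      rw [Equiv.symm_apply_eq]; rfl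
    rw [h2]; rfl
  have ga : g a = a' := hg 0
  have gb : g b = b' := hg 1
  have gc : g c = c' := hg 2
  have gd : g d = d' := hg 3
  have key : g * (swap a b * swap c d) * g⁻¹ = swap a' b' * swap c' d' := by
    have h1 := Equiv.swap_apply_apply g a b
    have h2 := Equiv.swap_apply_apply g c d
    rw [ga, gb] at h1
    rw [gc, gd] at h2
    rw [h1, h2]; group
  rcases Int.units_eq_one_or (Perm.sign g) with h | h
  · exact ⟨g, Perm.mem_alternatingGroup.2 h, key⟩
  · refine ⟨g * swap a b, Perm.mem_alternatingGroup.2 ?_, ?_⟩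
    · rw [map_mul, h, Perm.sign_swap hab]; rfl
    · rw [← key]
      have h3 : (g * swap a b)⁻¹ = swap a b * g⁻¹ := by rw [mul_inv_rev, swap_inv]
      rw [h3]
      calc g * swap a b * (swap a b * swap c d) * (swap a b * g⁻¹)
          = g * (swap a b * swap a b) * (swap c d * swap a b) * g⁻¹ := by group
        _ = g * (swap a b * swap c d) * g⁻¹ := by
          rw [swap_mul_self, mul_one, swap_mul_swap_comm hac had hbc hbd]

end dt

/-! ### (MUL-AN) -/

theorem cyc_mul_cyc {m : ℕ} (hm : 3 ≤ m) : cyc m 0 * cyc m 1 =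
    swap (Fin.ofNat (m + 2) 0) (Fin.ofNat (m + 2) m) * swap (Fin.ofNat (m + 2) 1) (Fin.ofNat (m + 2) (m + 1)) := by
  rw [cyc_def, cyc_def]
  have h2 : swap (Fin.ofNat (m + 2) m) (Fin.ofNat (m + 2) (m + 1)) * swap (Fin.ofNat (m + 2) 1) (Fin.ofNat (m + 2) m) *
      swap (Fin.ofNat (m + 2) m) (Fin.ofNat (m + 2) (m + 1)) =
      swap (Fin.ofNat (m + 2) 1) (Fin.ofNat (m + 2) (m + 1)) := by
    have := swap_conj (a := Fin.ofNat (m + 2) (m + 1)) (b := Fin.ofNat (m + 2) m) (c := Fin.ofNat (m + 2) 1)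
      (ofNat_ne (by omega) (by omega) (by omega)) (ofNat_ne (by omega) (by omega) (by omega))
    rw [swap_comm (Fin.ofNat (m + 2) (m + 1)) (Fin.ofNat (m + 2) m),
      swap_comm (Fin.ofNat (m + 2) m) (Fin.ofNat (m + 2) 1),
      swap_comm (Fin.ofNat (m + 2) (m + 1)) (Fin.ofNat (m + 2) 1)] at this
    exact this
  rw [← h2]; simp only [mul_assoc]

/-- A central extension of `A_n` by a group of order two splits if a double transposition lifts to an involution. -/
theorem exists_section {C : Type*} [Group C] {m : ℕ} (hm : 3 ≤ m) (π : C →* alternatingGroup (Fin (m + 2))) (z : C)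
    (z_ne : z ≠ 1) (z_mul : z * z = 1) (z_comm : ∀ x, x * z = z * x) (surj : Function.Surjective π)
    (ker : ∀ x, π x = 1 ↔ x = 1 ∨ x = z) {x : C} (hx : x * x = 1) {a b c d : Fin (m + 2)} (hab : a ≠ b)
    (hac : a ≠ c) (had : a ≠ d) (hbc : b ≠ c) (hbd : b ≠ d) (hcd : c ≠ d)
    (hx' : (π x : Perm (Fin (m + 2))) = swap a b * swap c d) :
    ∃ s : alternatingGroup (Fin (m + 2)) →* C, ∀ g, π (s g) = g := by
  by_contra hno
  push Not at hno
  have H : IsCover π z := ⟨z_ne, z_mul, z_comm, surj, ker, fun s hs => by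
    obtain ⟨g, hg⟩ := hno s
    exact hg (hs g)⟩
  obtain ⟨u, hu, hu'⟩ := H.exists_cube (cy_cube (m := m) (i := 0) (by omega))
  obtain ⟨v, hv, hv'⟩ := H.exists_cube (cy_cube (m := m) (i := 1) (by omega))
  have h1 := H.sq_eq hm (i := 0) (j := 1) (by omega) (by omega) (by omega) hu hu' hv hv'
  obtain ⟨g, hg, hgc⟩ := exists_conj hab hac had hbc hbd hcd
    (ofNat_ne (m := m) (i := 0) (j := m) (by omega) (by omega) (by omega))
    (ofNat_ne (m := m) (i := 0) (j := 1) (by omega) (by omega) (by omega))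
    (ofNat_ne (m := m) (i := 0) (j := m + 1) (by omega) (by omega) (by omega))
    (ofNat_ne (m := m) (i := m) (j := 1) (by omega) (by omega) (by omega))
    (ofNat_ne (m := m) (i := m) (j := m + 1) (by omega) (by omega) (by omega))
    (ofNat_ne (m := m) (i := 1) (j := m + 1) (by omega) (by omega) (by omega))
  obtain ⟨y, hy⟩ := surj ⟨g, hg⟩
  have h2 : π (y * x * y⁻¹) = π (u * v) := by
    apply Subtype.ext
    rw [map_mul, map_mul, map_inv, map_mul, hu', hv', hy]
    show g * (π x : Perm (Fin (m + 2))) * g⁻¹ = cyc m 0 * cyc m 1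
    rw [hx', hgc, cyc_mul_cyc hm]
  have h3 : (y * x * y⁻¹) * (y * x * y⁻¹) = 1 := by
    have : (y * x * y⁻¹) * (y * x * y⁻¹) = y * (x * x) * y⁻¹ := by group
    rw [this, hx]; group
  rcases H.eq_or_of_map_eq h2 with h4 | h4
  · rw [h4, ← pow_two, h1] at h3
    exact z_ne h3
  · rw [h4] at h3
    have h5 : u * v * z * (u * v * z) = (u * v) ^ 2 * (z * z) := by
      rw [mul_assoc (u * v) z, ← z_comm (u * v * z), pow_two]; group
    rw [h5, z_mul, mul_one, h1] at h3
    exact z_ne h3

/-! ### The contradiction -/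

variable {L : Type*} [Group L] {c : L}

/-- An invariant complement `A₁` of `⟨c⟩` in the kernel of a map onto `A_n` gives a contradiction. -/
theorem false_of_invariant [Finite L] (h : Ctr c) {P A A₁ : Subgroup L} (odd : ¬ 2 ∣ P.index) (cA : c ∈ A)
    (AP : A ≤ P) {m : ℕ} (hm : 3 ≤ m) (ρ : P →* alternatingGroup (Fin (m + 2))) (surj : Function.Surjective ρ)
    (ker : ∀ g : P, ρ g = 1 ↔ (g : L) ∈ A) (hA₁ : A₁ ≤ A) (inv₁ : ∀ g ∈ P, ∀ a ∈ A₁, g * a * g⁻¹ ∈ A₁)
    (hc₁ : c ∉ A₁) (h₁ : ∀ a ∈ A, a ∈ A₁ ∨ c * a ∈ A₁) {x : P} (hx : x * x = 1)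
    {a b a' b' : Fin (m + 2)} (h1 : a ≠ b) (h2 : a ≠ a') (h3 : a ≠ b') (h4 : b ≠ a') (h5 : b ≠ b')
    (h6 : a' ≠ b') (hx' : (ρ x : Perm (Fin (m + 2))) = swap a b * swap a' b') : False := by
  have hcP : c ∈ P := AP cA
  let N : Subgroup P := A₁.subgroupOf P
  have hNn : N.Normal := ⟨fun n hn g => mem_subgroupOf.2 (inv₁ g g.2 n (mem_subgroupOf.1 hn))⟩
  have hN : ∀ g : P, (QuotientGroup.mk g : P ⧸ N) = 1 ↔ (g : L) ∈ A₁ := fun g => by
    rw [QuotientGroup.eq_one_iff]; exact mem_subgroupOf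
  let π : P ⧸ N →* alternatingGroup (Fin (m + 2)) := QuotientGroup.lift N ρ (fun g hg =>
    (ker g).2 (hA₁ (mem_subgroupOf.1 hg)))
  have hπ : ∀ g : P, π (QuotientGroup.mk g) = ρ g := fun g => rfl
  let z : P ⧸ N := QuotientGroup.mk ⟨c, hcP⟩
  have hzz : z * z = 1 := by
    show (QuotientGroup.mk (⟨c, hcP⟩ * ⟨c, hcP⟩ : P) : P ⧸ N) = 1
    have : (⟨c, hcP⟩ * ⟨c, hcP⟩ : P) = 1 := Subtype.ext h.sq
    rw [this]; rfl
  have hz1 : z ≠ 1 := fun e => hc₁ ((hN _).1 e)
  have hzc : ∀ y : P ⧸ N, y * z = z * y := by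
    intro y
    induction y using QuotientGroup.induction_on with
    | H g =>
      show (QuotientGroup.mk (g * ⟨c, hcP⟩ : P) : P ⧸ N) = QuotientGroup.mk (⟨c, hcP⟩ * g : P)
      have : (g * ⟨c, hcP⟩ : P) = ⟨c, hcP⟩ * g := Subtype.ext (h.cen g).symm
      rw [this]
  have hker : ∀ y : P ⧸ N, π y = 1 ↔ y = 1 ∨ y = z := by
    intro y
    induction y using QuotientGroup.induction_on with
    | H g =>
      rw [hπ, ker]
      constructor
      · intro hg
        rcases h₁ g hg with e | e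
        · left; exact (hN g).2 e
        · right
          have e1 : (QuotientGroup.mk (⟨c, hcP⟩ * g : P) : P ⧸ N) = 1 := (hN _).2 e
          have e2 : z * (QuotientGroup.mk g : P ⧸ N) = 1 := e1
          rw [eq_inv_of_mul_eq_one_right e2, inv_eq_of_mul_eq_one_left hzz]
      · rintro (e | e)
        · exact hA₁ ((hN g).1 e)
        · have e1 : (QuotientGroup.mk g : P ⧸ N) * (QuotientGroup.mk ⟨c, hcP⟩)⁻¹ = 1 := by
            rw [e]; exact mul_inv_cancel z
          have e2 : (QuotientGroup.mk (g * ⟨c, hcP⟩⁻¹ : P) : P ⧸ N) = 1 := e1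
          have e3 : (g : L) * c⁻¹ ∈ A := hA₁ ((hN _).1 e2)
          have := mul_mem e3 cA
          rwa [inv_mul_cancel_right] at this
  have hsurj : Function.Surjective π := fun y => by
    obtain ⟨g, rfl⟩ := surj y
    exact ⟨QuotientGroup.mk g, rfl⟩
  have hxx : (QuotientGroup.mk x : P ⧸ N) * QuotientGroup.mk x = 1 := by
    show (QuotientGroup.mk (x * x : P) : P ⧸ N) = 1
    rw [hx]; rfl
  obtain ⟨s, hs⟩ := exists_section hm π z hz1 hzz hzc hsurj hker hxx h1 h2 h3 h4 h5 h6 hx'
  -- the complement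
  refine h.false_of_compl (P₁ := (s.range.comap (QuotientGroup.mk' N)).map P.subtype) hcP odd ?_ ?_
  · rintro ⟨g, hg, hgc⟩
    have e1 : g = ⟨c, hcP⟩ := Subtype.ext hgc
    obtain ⟨y, hy⟩ := hg
    have e2 : s y = z := by rw [hy, e1]; rfl
    have e3 := hs y
    rw [e2, (hker z).2 (Or.inr rfl)] at e3
    rw [← e3, map_one] at e2
    exact hz1 e2.symm
  · intro g hg
    have e1 : π ((QuotientGroup.mk ⟨g, hg⟩ : P ⧸ N) * (s (π (QuotientGroup.mk ⟨g, hg⟩)))⁻¹) = 1 := by
      rw [map_mul, map_inv, hs, mul_inv_cancel]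
    rcases (hker _).1 e1 with e2 | e2
    · left
      refine ⟨⟨g, hg⟩, ?_, rfl⟩
      show (QuotientGroup.mk ⟨g, hg⟩ : P ⧸ N) ∈ s.range
      rw [mul_inv_eq_one.1 e2]
      exact ⟨_, rfl⟩
    · right
      refine ⟨⟨c, hcP⟩ * ⟨g, hg⟩, ?_, rfl⟩
      show z * (QuotientGroup.mk ⟨g, hg⟩ : P ⧸ N) ∈ s.range
      have e3 : (QuotientGroup.mk ⟨g, hg⟩ : P ⧸ N) = z * s (π (QuotientGroup.mk ⟨g, hg⟩)) :=
        mul_inv_eq_iff_eq_mul.1 e2
      have e4 : z * (QuotientGroup.mk ⟨g, hg⟩ : P ⧸ N) = s (π (QuotientGroup.mk ⟨g, hg⟩)) := by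
        calc z * (QuotientGroup.mk ⟨g, hg⟩ : P ⧸ N) = z * (z * s (π (QuotientGroup.mk ⟨g, hg⟩))) :=
              congrArg (z * ·) e3
          _ = _ := by rw [← mul_assoc, hzz, one_mul]
      rw [e4]
      exact ⟨_, rfl⟩

/-- Three-cycles of `Fin n`, `n ≥ 8`, are connected by at most two steps of disjointness. -/
theorem exists_disjoint {n : ℕ} (hn : 8 ≤ n) {σ τ : Perm (Fin n)} (hσ : σ.IsThreeCycle) (hτ : τ.IsThreeCycle)
    (hne : ¬ σ.Disjoint τ) : ∃ μ : Perm (Fin n), μ.IsThreeCycle ∧ σ.Disjoint μ ∧ μ.Disjoint τ := by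
  classical
  have h1 : (σ.support ∪ τ.support).card ≤ 5 := by
    have h2 := Finset.card_union_add_card_inter σ.support τ.support
    rw [hσ.card_support, hτ.card_support] at h2
    have h3 : (σ.support ∩ τ.support).Nonempty := by
      rw [Finset.nonempty_iff_ne_empty, Ne, ← Finset.disjoint_iff_inter_eq_empty, ← Perm.disjoint_iff_disjoint_support]
      exact hne
    have h4 := h3.card_pos
    omega
  have h2 : 3 ≤ (σ.support ∪ τ.support)ᶜ.card := by
    rw [Finset.card_compl, Fintype.card_fin]; omega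
  obtain ⟨x, y, z, hx, hy, hz, hxy, hxz, hyz⟩ := Finset.two_lt_card_iff.1 (show 2 < (σ.support ∪ τ.support)ᶜ.card by omega)
  rw [Finset.mem_compl, Finset.mem_union, not_or, Perm.notMem_support, Perm.notMem_support] at hx hy hz
  refine ⟨swap x y * swap x z, Perm.isThreeCycle_swap_mul_swap_same hxy hxz hyz, ?_, ?_⟩
  · intro w
    by_cases h : w = x ∨ w = y ∨ w = z
    · left
      rcases h with rfl | rfl | rfl
      · exact hx.1
      · exact hy.1
      · exact hz.1
    · right
      push Not at h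
      rw [Perm.mul_apply, swap_apply_of_ne_of_ne h.1 h.2.2, swap_apply_of_ne_of_ne h.1 h.2.1]
  · intro w
    by_cases h : w = x ∨ w = y ∨ w = z
    · right
      rcases h with rfl | rfl | rfl
      · exact hx.2
      · exact hy.2
      · exact hz.2
    · left
      push Not at h
      rw [Perm.mul_apply, swap_apply_of_ne_of_ne h.1 h.2.2, swap_apply_of_ne_of_ne h.1 h.2.1]

/-- Data: a subgroup of odd index with a map onto `A_n`. -/
structure Aff {L : Type*} [Group L] (c : L) (P A : Subgroup L) {m : ℕ}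
    (ρ : P →* alternatingGroup (Fin (m + 2))) : Prop where
  odd : ¬ 2 ∣ P.index
  cA : c ∈ A
  AP : A ≤ P
  ker : ∀ g : P, ρ g = 1 ↔ (g : L) ∈ A
  surj : Function.Surjective ρ
  sqA : ∀ a ∈ A, a * a = 1
  fpf : ∀ d : P, (ρ d : Perm (Fin (m + 2))).IsThreeCycle → ∀ a ∈ A, d * a * (d : L)⁻¹ = a → a = 1 ∨ a = c
  inv : ∃ x : P, x * x = 1 ∧ ∃ a b a' b' : Fin (m + 2), a ≠ b ∧ a ≠ a' ∧ a ≠ b' ∧ b ≠ a' ∧ b ≠ b' ∧ a' ≠ b' ∧
    (ρ x : Perm (Fin (m + 2))) = swap a b * swap a' b'

namespace Aff

variable {P A : Subgroup L} {m : ℕ} {ρ : P →* alternatingGroup (Fin (m + 2))}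

theorem norm (H : Aff c P A ρ) : ∀ g ∈ P, ∀ a ∈ A, g * a * g⁻¹ ∈ A := by
  intro g hg a ha
  have h1 : ρ (⟨g, hg⟩ * ⟨a, H.AP ha⟩ * ⟨g, hg⟩⁻¹) = 1 := by
    rw [map_mul, map_mul, (H.ker ⟨a, H.AP ha⟩).2 ha, mul_one, map_inv, mul_inv_cancel]
  exact (H.ker _).1 h1

theorem comm (H : Aff c P A ρ) {x y : L} (hx : x ∈ A) (hy : y ∈ A) : x * y = y * x := by
  have h1 := H.sqA _ (mul_mem hx hy)
  have h2 : (x * y)⁻¹ = x * y := inv_eq_of_mul_eq_one_left h1
  rw [← h2, mul_inv_rev, inv_eq_of_mul_eq_one_left (H.sqA x hx), inv_eq_of_mul_eq_one_left (H.sqA y hy)]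

/-- the elements over three-cycles -/
def D (ρ : P →* alternatingGroup (Fin (m + 2))) : Set L :=
  {d | ∃ h : d ∈ P, (ρ ⟨d, h⟩ : Perm (Fin (m + 2))).IsThreeCycle}

/-- elements with the same image act in the same way -/
theorem act_eq (H : Aff c P A ρ) {g k : P} (h : ρ g = ρ k) {a : L} (ha : a ∈ A) :
    g * a * (g : L)⁻¹ = k * a * (k : L)⁻¹ := by
  have h1 : (k⁻¹ * g : P) = (k⁻¹ * g : P) := rfl
  have h2 : ((k⁻¹ * g : P) : L) ∈ A := (H.ker _).1 (by rw [map_mul, map_inv, h, inv_mul_cancel])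
  have h3 := H.comm h2 ha
  have h4 : (g : L) = k * ((k⁻¹ * g : P) : L) := by
    rw [coe_mul, coe_inv]; group
  calc (g : L) * a * (g : L)⁻¹ = k * (((k⁻¹ * g : P) : L) * a) * ((k⁻¹ * g : P) : L)⁻¹ * (k : L)⁻¹ := by
        conv_lhs => rw [h4]
        group
    _ = k * a * (k : L)⁻¹ := by rw [h3]; group

theorem fpfHyp (h : Ctr c) (H : Aff c P A ρ) : Fpf.Hyp c A P (D ρ) where
  ne := h.ne
  cen := h.cen
  cA := H.cA
  sqA := H.sqA
  norm := H.norm
  DP := fun _ hd => hd.1
  conj := by
    rintro g hg d ⟨hd, hd'⟩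
    refine ⟨mul_mem (mul_mem hg hd) (inv_mem hg), ?_⟩
    have : ρ ⟨g * d * g⁻¹, mul_mem (mul_mem hg hd) (inv_mem hg)⟩ = ρ ⟨g, hg⟩ * ρ ⟨d, hd⟩ * (ρ ⟨g, hg⟩)⁻¹ := by
      rw [← map_inv, ← map_mul, ← map_mul]; rfl
    rw [this]
    show (Perm.IsThreeCycle ((ρ ⟨g, hg⟩ : Perm (Fin (m + 2))) * (ρ ⟨d, hd⟩ : Perm (Fin (m + 2))) *
      (ρ ⟨g, hg⟩ : Perm (Fin (m + 2)))⁻¹))
    rw [Perm.IsThreeCycle, Perm.cycleType_conj]
    exact hd'
  three := by
    rintro d ⟨hd, hd'⟩ a ha
    have h1 : ρ (⟨d, hd⟩ * ⟨d, hd⟩ * ⟨d, hd⟩) = ρ 1 := by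
      rw [map_mul, map_mul, map_one]
      have := hd'.orderOf
      have h2 : (ρ ⟨d, hd⟩ : Perm (Fin (m + 2))) ^ 3 = 1 := by rw [← this]; exact pow_orderOf_eq_one _
      apply Subtype.ext
      rw [pow_succ, pow_two] at h2
      exact h2
    have h2 := H.act_eq h1 ha
    rw [coe_mul, coe_mul, coe_one] at h2
    calc d * (d * (d * a * d⁻¹) * d⁻¹) * d⁻¹ = d * d * d * a * (d * d * d)⁻¹ := by group
      _ = 1 * a * 1⁻¹ := h2
      _ = a := by group
  fpf := by
    rintro d ⟨hd, hd'⟩ a ha hda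
    exact H.fpf ⟨d, hd⟩ hd' a ha hda

theorem rel (H : Aff c P A ρ) {x y : P} (hx : (ρ x : Perm (Fin (m + 2))).IsThreeCycle)
    (hy : (ρ y : Perm (Fin (m + 2))).IsThreeCycle) (hxy : (ρ x : Perm (Fin (m + 2))).Disjoint (ρ y)) :
    Fpf.Rel A (D ρ) (x : L) y := by
  refine ⟨⟨x.2, hx⟩, ⟨y.2, hy⟩, fun a ha => ?_⟩
  have h1 : ρ (x * y) = ρ (y * x) := by
    rw [map_mul, map_mul]
    exact Subtype.ext hxy.commute
  have h2 := H.act_eq h1 ha
  rw [coe_mul, coe_mul] at h2
  calc (x : L) * (y * a * (y : L)⁻¹) * (x : L)⁻¹ = x * y * a * ((x : L) * y)⁻¹ := by group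
    _ = y * x * a * ((y : L) * x)⁻¹ := h2
    _ = _ := by group

/-- **There is no perfect group with a central involution `c` and a subgroup of this kind.** -/
theorem false [Finite L] (h : Ctr c) (hm : 6 ≤ m) (H : Aff c P A ρ) : False := by
  classical
  -- a three-cycle
  have hn : 8 ≤ m + 2 := by omega
  have hF : ∀ σ : Perm (Fin (m + 2)), σ.IsThreeCycle → ∃ g : P, (ρ g : Perm (Fin (m + 2))) = σ := by
    intro σ hσ
    obtain ⟨g, hg⟩ := H.surj ⟨σ, hσ.mem_alternatingGroup⟩
    exact ⟨g, by rw [hg]⟩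
  have h01 : (Fin.ofNat (m + 2) 0) ≠ Fin.ofNat (m + 2) 1 := ofNat_ne (by omega) (by omega) (by omega)
  have h02 : (Fin.ofNat (m + 2) 0) ≠ Fin.ofNat (m + 2) 2 := ofNat_ne (by omega) (by omega) (by omega)
  have h12 : (Fin.ofNat (m + 2) 1) ≠ Fin.ofNat (m + 2) 2 := ofNat_ne (by omega) (by omega) (by omega)
  have hσ₀ := Perm.isThreeCycle_swap_mul_swap_same h01 h02 h12
  obtain ⟨d₀, hd₀⟩ := hF _ hσ₀
  have hd₀' : (ρ d₀ : Perm (Fin (m + 2))).IsThreeCycle := by rw [hd₀]; exact hσ₀
  obtain ⟨A₁, hA₁, inv₁, hc₁, h₁⟩ := (H.fpfHyp h).exists_compl (d₀ := d₀) ⟨d₀.2, hd₀'⟩ (by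
    rintro d ⟨hd, hd'⟩
    by_cases hdis : (ρ d₀ : Perm (Fin (m + 2))).Disjoint (ρ ⟨d, hd⟩)
    · exact Relation.ReflTransGen.single (H.rel (y := ⟨d, hd⟩) hd₀' hd' hdis)
    · obtain ⟨μ, hμ, h1, h2⟩ := exists_disjoint hn hd₀' hd' hdis
      obtain ⟨e, he⟩ := hF μ hμ
      rw [← he] at hμ h1 h2
      exact (Relation.ReflTransGen.single (H.rel hd₀' hμ h1)).tail (H.rel (y := ⟨d, hd⟩) hμ hd' h2))
  obtain ⟨x, hx, a, b, a', b', e1, e2, e3, e4, e5, e6, hx'⟩ := H.inv
  exact false_of_invariant h H.odd H.cA H.AP (by omega) ρ H.surj H.ker hA₁ inv₁ hc₁ h₁ hx e1 e2 e3 e4 e5 e6 hx'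

end Aff

end Cfsg.Agent.KFacts.MulSpor.AffAlt

end
end

-- part: KFacts/MulSpor/CoThreeTab
section
/-!
# Co3: elements of a subgroup `2^4 . A_8` as packed tables

`T`: the tables of the 16 elements of the elementary abelian group, of six elements of order three over three-cycles
`(i, 7, 8)`, and of one further element `g`, on the 552 vectors.
-/

set_option autoImplicit false
set_option Elab.async false

namespace Cfsg.Agent.KFacts.MulSpor.CoThreeTab

open Cfsg.Agent.SporadicStructure.PermChain Cfsg.Agent.McLType.Chain Cfsg.Agent.Schreier.CoThreeGens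

/-- All tables of the stabiliser chain. -/
def LL : List ℕ := [tab_x, tab_y, tab_d, tab_xi, tab_yi, q1_0, q1_1, q1_0i, q1_1i, q2_0, q2_1, q2_0i, q2_1i, q3_0, q3_1, q3_0i, q4_0, q4_1, q4_2, q4_0i, q4_2i, q5_0, q5_1, q5_0i, q5_1i]

theorem inLL : ∀ t ∈ LL, InK 10 K0 t := by
  have h1 := in1
  have l1 : lev 10 552 L1 ≤ K0 := lev_le in1
  have h2 : ∀ t ∈ L2, InK 10 K0 t := fun t ht => (in2 t ht).imp fun _ h => ⟨l1 h.1, h.2⟩
  have l2 : lev 10 552 L2 ≤ K0 := lev_le h2
  have h3 : ∀ t ∈ L3, InK 10 K0 t := fun t ht => (in3 t ht).imp fun _ h => ⟨l2 h.1, h.2⟩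
  have l3 : lev 10 552 L3 ≤ K0 := lev_le h3
  have h4 : ∀ t ∈ L4, InK 10 K0 t := fun t ht => (in4 t ht).imp fun _ h => ⟨l3 h.1, h.2⟩
  have l4 : lev 10 552 L4 ≤ K0 := lev_le h4
  have h5 : ∀ t ∈ L5, InK 10 K0 t := fun t ht => (in5 t ht).imp fun _ h => ⟨l4 h.1, h.2⟩
  have e : LL = L0 ++ (L1 ++ (L2 ++ (L3 ++ (L4 ++ L5)))) := rfl
  intro t ht
  rw [e] at ht
  simp only [List.mem_append] at ht
  rcases ht with h | h | h | h | h | h
  · exact in0 t h
  · exact h1 t h
  · exact h2 t h
  · exact h3 t h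
  · exact h4 t h
  · exact h5 t h

def f0 : ℕ := 0x89e268962488e228862087e1e8761c86e1a8661885e168561484e128461083e0e8360c82e0a8260881e068160480e02806007fdfe7f5fc7edfa7e5f87ddf67d5f47cdf27c5f07bdee7b5ec7adea7a5e879de6795e478de2785e077dde775dc76dda765d875dd6755d474dd2745d073dce735cc72dca725c871dc6715c470dc2705c06fdbe6f5bc6edba6e5b86ddb66d5b46cdb26c5b06bdae6b5ac6adaa6a5a869da6695a468da2685a067d9e6759c66d9a6659865d966559464d926459063d8e6358c62d8a6258861d866158460d82605805fd7e5f57c5ed7a5e5785dd765d5745cd725c5705bd6e5b56c5ad6a5a56859d665956458d625856057d5e5755c56d5a5655855d565555454d525455053d4e5354c52d4a5254851d465154450d42505404fd3e4f53c4ed3a4e5384dd364d5344cd324c5304bd2e4b52c4ad2a4a52849d264952448d224852047d1e4751c46d1a4651845d164551444d124451043d0e4350c42d0a4250841d064150440d02405003fcfe3f4fc3ecfa3e4f83dcf63d4f43ccf23c4f03bcee3b4ec3acea3a4e839ce6394e438ce2384e037cde374dc36cda364d835cd6354d434cd2344d033cce334cc32cca324c831cc6314c430cc2304c02fcbe2f4bc2ecba2e4b82dcb62d4b42ccb22c4b02bcae2b4ac2acaa2a4a829ca6294a428ca2284a027c9e2749c26c9a2649825c962549424c922449023c8e2348c22c8a2248821c862148420c82204801fc7e1f47c1ec7a1e4781dc761d4741cc721c4701bc6e1b46c1ac6a1a46819c661946418c621846017c5e1745c16c5a1645815c561545414c521445013c4e1344c12c4a1244811c461144410c42104400fc3e0f43c0ec3a0e4380dc360d4340cc320c4300bc2e0b42c0ac2a0a42809c260942408c220842007c1e0741c06c1a0641805c160541404c120441003c0e0340c02c0a0240801c060140400c0200400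
def f1 : ℕ := 0x89a2786e2488e228722085e1e85221896138621987e1585a1d86a12845b6805bc82a046de0d825ba7f9b46e60c801c083e036d6077f5b17e9fb6cdf37c1f67d5ae7e1b26c1f76a5e66b1ec7ade76a9e37a9ee6b5ab7a1a7775e0695de785d4689da745d8755a175ddc691d2765a0679ce671ca72dcc665c566dc6721c4709c3706026f5b86fe0e6ee08815be82e107fe067e5f27f1f16bdf4795ed791e97bda8789a677dd367ddb759d068dcf675cd71d9a7255f4e157575335515556d34561365694e545324c54f549505312f5352d52d4952945519424ad2c4a94050d414f93c4e9394a5375815657159579354c1534b94851d444fd3d4ed6f6616b6556d6458d5b18f6596e649935a18762d866218c60d856057f601665957d5f9645dd7c5d97858d7558974585735c9975c18e5a9906518a62569611676097a5ed795c5224992745d2446128459204551e4751b4711a465234952147d1444d08419024110e4350b4310a4251241d113fd0f40d1040101414b62b8ac2b4a5300a32f89e2749325cbd264b7240b52d0c62ccc52c8c42bcb12acb030ca92a8c2304a72a0a6288a426c9f2849c280bf250952e491260bb268962e8922f08f2e0ec3a8e838ce037cf9350f73c8c9338cb344c73c0fe3b8ed3ace9398e439cfd3ecfc394e1388dd378dc3e8da3e0db35cd5360f63d4d6364cd3c4cf3cccc348d33d0ca340ef3205e234601688a1608415c511308815048204451fc380f8430e8420cc780d82b0d42e0842805c1c1a42207c6c064681bc6a094661906518c5f1848c1888e16c5c1748b1648921c4e1548312c502185213c561348514c461248211c4a2003f1f07a0e43d1107d1003c0ec7b1047e0c0771d42f1e4320c4370d0740b02d1d82a080720901819c2706c6e1cc291b41e0687008c1d1ac261c4160540d02811048080380f05002018130241001c0b0140400c0c00001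
def f2 : ℕ := 0x86e2589a2488e228662085a1e86a1889e1d8861c8561f85e13852128455d8315780e0f57e007f55481d5b55601835588120a569fe825527edfa541f37c1f57d94e7e15153df7525e652deb7b1ea529e379dee5354c7a145785de519e0775d150dda751d87554175dd9509d2771404f1cb4f9cc739ca4e9c84e5c4715c6709c37058f4992249d96491936492866195635916198b61d884818c60d816157f6011e5f91d5f57c471775d97846d74469755c9195cdb74d1bc6d9366e9b96d138701336d5ae6c9324c5b06c5b36ad2f6b52d6b1a96a9a7695a44b12b4a9a0689a16719e6659b4a5185b56b5bd6c5b917459684556659563591625855c82d5684160819ff566028395e8160854dfc7c9f97c5f4795e47b5e97bd4851ddf7893f76dd3759d0511cd4f5cf4edc971d9048d94495976398a625216111f6097b5e9795c5b86f5bf4d5bb4ddbe4c1af4b9a8699a367d9d669705a96959d1444cc02f8bd2dc8d22888210811fcf91e0f71a4f01b0f21a06a1bcb62b8ad2b0a5420a34189e274992410224d0425c60178ec160ea168e315c511504c3a045120e037c380f83a10c420cc360b8350acd407c2232419094ce0a02131c173441c32cc6314c3310c2305122fd11440b92ecb82f0ba43cfe2308e2248b2188521cfd3f0fb20c822007d1f87b3e87a3e07c1d0761dcf63d4751e4723d0673bc731b86d3c4711acf31c0b4438b52c90d2cd0c2bcb12c10b2acaa428a9424a72a0a2298a426d0727ca0270a12589a2488f3fc9525103245004150126066190651846218cee17ced1745916ce9170eb39c4b154e5138503985213c53134e41584a11ce1124463883f36cda0e440110dd0f43b0f0dc104de0c0d83582f364310c8370d0d70b42c3541e0a4cd0742333c1a098d23302034c2a09cc8060243401b3281605413050100201202c060280003c0d0241101c0e0140400c010080c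
def f3 : ℕ := 0x8961b89e2488e22862208561e84e1989a148722185a1787e1a87612845958119680201662037f5937f99164a0f8298f8320d63607825877e9fb619f87ddf57d98c7cd8b621f0601ee605eb7b1e75fde87a9e660d8578d7e775de5f5e0785d95ddda771d875d76755d15f1d2751785d1cb5d5ca739cc5cdc55c9c4721c670dc27055849d2849957491545552257d5d5695b541515494f4814e5354b5314a5251e5151d5194246d43505404713c4693e4e5194ea0b6420e8418e8220581997809947fdf47c98a625f17f1f979184795827b5ef7a5e277dd35e97b5e5d076dd6735cf725c75c5235715e58159559254855347d4851d3f5113d4ed6d6dd6e6d96f6d1b55b1c06f16b6e5ba5a1b16c9b36c1ae6b5ab6b1aa6a566595a569d63689a4685a05919c5899e5859966d344613345d384d9324c5164bd154b52b4b12a4a5be6fdbd5a9bb5c1b85a5af59da86999f68d9d669374d5304b91444cf93dcf23c08d22884220811fcc01e0be1bcb71b0bd1a8681a4fe3f4fb3f0fa448f8444f63d4f13bd103d10f3cc8c238c6224c522cc321c8620c8531080208c23047e1f47b1f07a1e4771d0751d8bf1b46e2f06b19cbb1c8732e0712e4702e8ec3a8e33a0e037d0835106408d1338c7324cb410b61805e1605a1444c15cae2b0ad150481143e0e03a2944228c430b82b0d89e274350cc2824c25240210881f2641706497070ed438ee3a50d3ad0b39ce63910c394e1428e2424de374db370da36507360d5358d7330cd328c8414d234d03341013fd0033c66194641845f18cb5188b416c59174b2170b32bc53154ab158522c45013c4b134b01384611caa1244a2a444288a41043d0fca81003b0f0a60e4a70dc9f2703426c310c8300bca10b02d2801e0809a0681b2601d06095258292502a0908f0982724423248160540a03408040110180b04c01038140241201c0f0140400c0003002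
def f4 : ℕ := 0x84e1a8762488e22856208621e896168522685e1f8661c8861b89e12845586fa0e4cd225c1947f535565b4635286395d6e1366496c825215a1536b9f3625206bdb37e18b7c5317912f52da8479486a9e859984455ef78d7e595e0519de51d635dd14511d25e5d64a93f691d8591404f19d735ca469cc5cdc866d197159a4a571705955ba0f559bc4916a56a014dd8f556067d151459b07d5f947d816a5e96adec515a65f5d34ad43685785ed747399c71dc44e9235b5967020a45dff56d606da03815507c9327dd885a54e601e64b9826b185529e26954267d1c75da076d765d59e7253970a0b4d1bf65dfe499ba61dfb535e7785d17713d585904612780938645b981e1055dbd6d5257e9306c98c53d8659d497b57f531ea775df69dd96897c505d07513e589cf4ed995c95c6de008216f8358a7c1527b9834b51b68dd570e045796b551bb6620c7f1f66b5eb4757a4b1cb7195f64db1795da134421d89432061170fb2b50a0f07a0c42b06c8f1b0d32f0c908c6414884430fa29039354372741a2e01f09c7032cb5238ec160c53a45315ce62ac85138801204a0f4db2a03a378c0284d826c753dc2d408721a8d005c201b8963bc254010f25cc63a84b15846100da0b0a01b5010a4901a0f3070653b85e224b22c44c21c5042c8839482114dd2887b294f9104a7364be27c303d43535c220907131ccc0a11007467244ba410ed18c6022c592ccac2bc86390fc150aa204e20ec7c0f87e299080b8321dd1135833084d2260f0098cd2f5031acd1060b9248662d8fe234624388c17cb416d0d1745a228eb39cc313c833a0fd144ae154e344cb0310e0124e111cc22a4440e11228cc10fc7d37d091fcdc3e0433d8362702f1d07841c9e0d079350bf4181e2ec953c46f328993fc9a1ccce3c82a24cb7414f40646933c16054000300602c0e0201000413044020240f01c120140400c0a03414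
def f5 : ℕ := 0x86a138522488e2285a208661e86e158762787e17862218722589a128458f6e1bc651284dd337f56a5b206569224d9956f98e555598251654d687d1f84c5206bdf97cd516c1896ad84605a8479667a5e35212f47da97a14551de05f5de5953f50d14591d24a9a15e56374dd8511785d19d671cc469ca4e9c571d197219a5c5297055d55a015ba0e491356360f5c158649b46b98b485f17d5b34554b7bdaa791ec5f9a6519a45ed77759404ad3c739cd66dc45cd185715780a0d495b56456f842006e5866c98a7c14f4c18c525ee59d2d7b54c5fda777d7c68d1b755d0689414f9cf6657270db7641bd4e20749e08549fa60dea775d9751624ed3448d267019756e057f9b6659bf7fd177ed697c94e621504b9806b14a615e7785a5789d176d425d9a0771754f59e585c94e56d82e036e960829327dd877994d6091c67dd770a0c5ad5e64dbb57e046c5f6795eb4752c5e9cb71998551fc6b5da1347a0acd323c61170ad3ed0a0f0420c47608cc81b094324bc06c651408842ca536841280303d41d31c6d0901c2e8ee178c6224ea2c84b21cb13944c1584520846100a23747b29cf935c9f364352f82c440281a0911c429088cc24067405043ccec314531384a0f4a40b4d507d00080ef1a8971c0642d48e160e93988515c52430842ac48200a836c3a3e8c00e4de26cf736037274752846e09c172e0961c90206825340cb43cb418c8c168593acfc39c512c0ac20ce1204a90ec431f438371121d0320d906270791cc9533cb70609a3c903064b9098d1328663f8b62345f43860188ed1750d16c8b228b32bce313c54310ae218fd154c344ce43a0c2124aa11ce03883f1f9083e0df1103e305091fca628c7c27877358340b87841cf60bc332fcd44441e338d226469248f1414cd084bb2f42a3d0f03fc931ac6f26016054010080b0180f040080000a0480c0240e01c110140400c130500d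
def f6 : ℕ := 0x8521d86a2488e2285e208721e89a1f84e2585616886188662786e128460248957639be4613682525565916d5b84ce104a1946e56c7f5305a153631f84c5af481867cdb253d89531847b51e6a1485fde35992f59d497a1a7595de77de051d64689144fdd24a9415e5445f1d858dd073d1a4f9ca675cc665c85c99a715195c529705b65ae0c579966ed177fe0448dc08155b539f25a5887d9504b9ac6014a615eb7891d695425e9db5d9a04b19e72d754e5c6725375bdbc63e005a95a8195c6560d555f95458a7c1b0459f46a5ee47d2d605ab7a5455f5d346da37557850da1671744e9c770d5f65d264d1fe6fd936c5fb795e7785dc7453d585385c1bd561906d19281d5d83927635357e92162dae7c5b3455ef52daa791ea775465f9d45dda475940765cd5893c4ed7366d606620a5516d80d327ddfc799ad6099f471d770a015596e821246de0f549f560dec6992b5edce7120b6e987535da134da2806d07063164ac3f0810eca40c8d50607040c1f2e4d1098651410b220a51e8410ac303d4242e8d30748f31c8c2d0ec3acc51684e39c5120cb014ca93844a0f4431f4dc0e1121d0361e49c4182d3c89a40019328202547325ccf1a8b73bcc63a85612c46100420b076250680a4f34049032064180ed2cc8b218e42bc522110c150aa3883e1f0a63e9080e47e0cd111dc37274d60b8d20689232c21334bd09c981acb83c05e184ee2c85c224fb21cb1130ad39482428450f0a2374a71ecf935c3127cbe0d4d93302219d0408c284406c244c906cbc1c4663f8b643862234b517c8e16c8a174e94345815cc413cab38cae398fd154e844c8530ce011c48124c22003f378c03e0c1110a837c7f4243a28cdb278d81d434285071e0f60bc9b350bf3dc2a2ec6e24cff05cf41bc72258ce4081e3c50f1a49934105094160540c0000e03c060441200814020010240b01c100140400c0d02813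
def f7 : ℕ := 0x8761484e2488e2287e208861e89e1786a1b85a15872198622689612845c04a1964d9b848d8e825175b15b7fdbe651b648933815597f56954d68539f3625af481507e1f2621316152f6b11e6a166529e8521844b98078de251dde695e05954476d1458dd25e5764a964509d84fda06791a5d5cc675ca725c54e59a721194a5717061057a045ad576ed256d60c462026e591631b24c14f7d98659ded5257f531eb69d1d77d7c4b1a2505d05e9cf72d3e5c9c6665705820e562034d58d6d16d5760a649b362d327ddf1485ae7bde64558252de46a97e519a44719f75d405ddd67353c5cd9b709984e127642076f5547f1fa6b5ea775d4765624ed974ddbf63d34819557f9956f1265696a7ed16545f46c1f947da9605e96ade77857d515dc50dd3685787459c4f5745853a71d6f57e0d64d5c8018a7c1b17b9e54b5a346dd570e0f5b9566e92482e0161df5535ec6997b4adce711b78215260dda134a43541f1c063164fc2b0810ecda0c8a00981c40c6d344b9060641490c210fa108391d8372742732c94068c82e0603b4c62ccea22c562bc86150e412ce22a8461007c0f8a61f9080b8770ccd64442c2f4cd4046b24829348213cc981a0f0240ec3144e14c4a0f47a0b42b34c6a08097400ef23c65230b43ac5a144b039c502210b20ce12a47d10cdc29512104381e5060d8303d49c1d095074ca2e873268f2090cf064c72dc8e184b53a45c160ad15ce6214fb2ac48428800f0db2a0de0e8c028431360f71d49b2586e0950f06c724086c340bc08cc905c662d8fe4385f234ee1885e1748a16cb24348921ce813ce530cfd2c4ae154c444c4c38cc211c82124e01144429cf928cdf0fcdd3047f4247b3e0a23d89f0d42f35d071e09e0d0d92fcd42f82a338223d1051c4931a428330bb4401e265041bcf1244ff19c16054020040f0380b048110300d040000240601c080140400c1404c0a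
def f8 : ℕ := 0x87e178562488e228762089e1e8861485a1986a1389a1b8961c8621284570641965ad385615e6edff81db445d975b95f4d156821fe4918c5a1534c1327ddaf48187629516c1f06b5e67b5a8479665fd82521ee6a51f4b5e27751d519a67859f689d2471145e5414a9a374dda46d78679cb735627393d5cd3b4e5c6585c45c52970598639604d957825b54956f63d376ea065a58b539f17d9527bdac4554a795ec69dde5f5a4751db5d940771cf4699c5c99a4e9c08120e48d276353556e0f6ddbf64dfc6c9f36254f7d11659d2f525e86054d7a57e6957c58d4475dd050da15d53c7259b70e106e2034a16c835556cdfb615ea51d2c5edcc715be80a0a46122645545660b6f2005a95a7e9ae7c921621b16012e52daa60de7595df5157a5dd42759a04ad3e729747219971e0c6d9bd64a01499f84c5f96114c78d644fdd57096d651336e5fd6555c541f5791eb781d97459d4655d815866add813c7c284223290e22856138470f0430c8d732c920a86e3d0932e865148e830c4436ca30b8f60bd01098951a87106c602385f2cc5d3a4fc21c51394b02b4e2120c2100a41f4dc3e4a71d89f418351e42d334bd09c6b070ce34c964150f074251a46216cac3ece00f4a20b0743481a2ecff0906f05c642305e3acb2218e415c5038cc42ac822a43e368a60fcde3e0c0444333609e0d0750ac941a070060cc3c89a401040642319ced234b522d0d1604b39cb11305320caa124800ec42375121ec38354310d8d9270be0846d3c0982e1021c81e340f131c9923c663f8b618cc6184ee3b0b43a8593145a170892bd0c13454210fd398ae44d0b1548522046204e14284a114fa4207e0e4df294a8305091fc3a1047a0dc773589d281071e0303d4f7350bf26d030a41f344f3320b9241101cc200a06c324cf3bcbc244972dc160540f02c02030010500d0381104c060240001c0a0140400c1204008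
def f9 : ℕ := 0x85e1f85a2488e228522089a1e8721d8561884e1a89e2586e2186612845374d1575799763d6b6edb57fa0649538559986416e6ea074914e54d685a58a7c1af481524c98b7c5f7795ee6b1a8479485292d599e67bd15609a77851d5f5a6775a376dd246d144a9765e59f691da4714073dcb6713d739624e9615c9c64edc44a5717055f4d96f63996825ff45d6056170821b44c151631b07d9876a5ed47d7f6b5ec789de519d3771a2505787519e469cd4e59a5ce02831bc461265696a6460182dbd551b17c9f84c5886b9214b984601e352d836a94577d424fd64755a05ddd64f974665c7709b66fa0048959829927e5fa531e75957a4adca721b87020d48d2856d935b1b783a034d58d7edf46c91653dfc52567605e9535ea51da55f92c50d7c685d05ed757313c715c966e04841bf5560f49df3625b34bd857a14458dd770d5c4cd94815fd5756d619f56adeb781d17659d465956e550791d813c4335c6e2490e2284e158470f07c0c8a12e8ca0a82224cf432c64140c438c3f288f81d09e0d100060d21a01708c8c178623ac5b2c8ac15c862ace43eca9208e00f4da0f8a6300de0acd8444750cc2c268f2090191c0bb250cc3fd04068671bc5f174fc2b4c2100db0b42e2541d3390509c691c4651808e2cce9144b021c5230ce8394483887d290dc110a728cf94187927cf60bc351d8d31a81c098962f4cd4050f1ac1b094b4234ee1690d224532bce62144b150e1124450ec7a2a1080e87e280311dc9b358f71cc1f2dccf31d100a01e244992e0f1320662d8fe18cec184b5318ed314593a88b1705839d0b13483220ae2c4fd44d0c1544c2104a204aa42846200a544838104c13e8dd37d091fc7b0e4420c036270f5355071e037274be2fcd4365030806d2e49723cd13bd02084291c86c2f098240c9340f33c0160540e0180c008000341403c120280b0240101c130140400c1102010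
def f10 : ℕ := 0x85a1585e2488e2286a2086e1e8661387e21876148962789a1887212845184e1bc5b990809564915a81d915a9345ae0b65d5e551fe6edae5a1534858a7c1206bdb14c9f2621f760dee52d1e6a1666a92d521e66012e60945775a677d1d7851b5ddd268d144a9d65e51c509da67da05d1ce4f96272d3d6653b71dc4585c64a571705b74cd5c6520e7f58d4d56d7012364d5b459b27d14f7d5fc5258159de9535eb5f9e06957c76543685d07453c6757566d197258f805574ddbd6d52581a0c661266e95262df84c5f153969455847bde36b1e5529a75f5a45913f7554076d76671cf4e9727095d4a20d6e16c80e05619fb6adea51d7b4b1cc71522562005c1be6d2085655f65a0a45dff7e98c545306c1876a51f7b57f6b5e7595467892b689d3505785e9cd7299e721734e60f655276e6046fdf3625504bde47a163511d770d6f4d98e64a096d9607e5f6531ec779d47711a66a10555b3615d813ca21d0d205c8d4344b14c490ecdb0c42e31c7107895264f12e064140e33103f10cf835c9e0d06808c6e40092060ee2d05f2245d168ad2bce6150853f045384c21007a2a03a4207e280773dcd626c2d0a11007491320ce07c731a4b709ccf4146216cfb2b0e00f47c0b0a1088242ec6f068ff328652d4ed1608b2c44c39c523a0c320caa200dd1087b1103828d122f8d90d8f60bc9c3546d4048f06c21408721a8f0340262605e4388c2c88a3ac5615c863904e2ac8211ca90f0da0f8c0298de0ac32360331d51133094410672e8f22682a0649332cf41c0662d8fe184c618c603b08e3a85c314e9164b321c88134e542cae144fd44c84154b043046428482044a388a53e4a7104df3e87d3047f424dc0e4a40c09f0d4f51d87841c3727506350bf1e46c0a4d332490070bc3ccbd25820335033442525cb91acef43c160540b03c010000204c0a018080500e0240c01c0d0140400c1004811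
def f11 : ℕ := 0x8561687e2488e2284e208961e8621a85e1c8521d86e2689e19886128452365e0e559347016e4918d7f95b4d590579b74e16b64e076edf454d68459327dd206bdfc629b253df0535e66051e6a1487a582599ee525674b57e785a66951d7751c50dd267d145e5a14a91b5f1da68dd04f1ce5d53d72d627256166dc44edc65c5297060b6516d4cdbc7f55a5a95c8091855191485f26b9887d5b16014b4b9aa60deb515e077d4274577759a0765746753e71d196655883d965c1bf7fd176d20457d2782187545f3625b06313047d2f6a5e87b5ad5fde2519d35116375d78689417359e5cd3970d9548a0a6f959801b9541fa791e75952b5e9ca7212863e034ddb8819ba5b19855e0d495b57ed4e62d697c5527bd156b14a795ea51d7d69d7b76da45d9404b19c731cf7153a5ca01575268160c6f5f84c586611ab78d3f591d57096063936556098416f6cdf6615ec779dc7511a669b6649f9531d813cdb0b8951c48d4345312c490eca20c4742e017078d23c49931c65148c33a0441f0a3284f60bc6a06c22404ca098b53b4621605b22cfb39cb120c4c2b0802a8e00f4423747b44838354362f89c3642c1c902068d023cbb1b4211bcf0090983fc5f174ad3f0c2100430b4d71b8273386907505248643b8b42245a398852bc50310e3150e1114a81e83a0fc7e3e1083dc9b1dc9e0d0d62801f400c808c73440281a0b72441833c8e438603a48a2cc4e21c512c0563944811ce20f0a41f4f9370a71d83227c790d506258d343c2532cbd3342a1acf42e893070663f8b6184ec18c8c3185e3145c3a8b2164eb15c84134ab430fd218ae44c88154e442c4a42882204462a4fa300de0e4c12943e37c7f424a6104da0dcd81d49d0ac7841c303d5112fcd40cc6c080942f0ef1c0c925cf233029269032e4673ccd1064904101605406038000040c0281302c100340f0240201c140140400c0804412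
def f12 : ℕ := 0x862198862488e228962084e1e8561b8721789a2786a148761687e128460b581964995c84127491925660664d6d6fd185bdbd4d56c6ed507edfa5498a625f57d9694c9b26c13147d8452dec7ade7529827a92f6adad4b57e51d1d77da65957b50dd85e9da75d417552b691144b1a05d11a7353d675627253b5c9195859a709c37052380d90801577f555551346d9b75a9b461df2619f148130791817957f455a8515de695d34fd775d9d058d3c72d9c4e5c4665954a20e6615e81608645be4dd6e45d21545f87dd4f6cdb1535ee531e86b1676a9e25f542771d95e540689a15d5cf5cdc74a5588058e811fe4cdb57d168601487751b67dca7160f5759457e0c56d2581d706f1366e9b954df962dfc62116615837b5e94b9667854669d1c76d7c7597868d3e7319e7213a66d2263d567fdb85adf37c1ae7994978dd17512a5c59782a0d56a0970138631af7bd1e78144591ce71a026354e6a5d21547e3649a09461164c338c47424381e09b3bc67078cd0681d240b63f45315844378411e4370d0bc1bc28344984148c3b45f2245b3a4842bc512ac4c42c8038446304f90f83a290a24449f0ac9c0b8d41b86d3c46b2dc20408cc06cc824cca06062174884304a37ca72fc331c8f40a4232642633cfe180b4160b22188539cae1384b394aa1147d3007b0fcdb0e4da1d874360300bcd6419102e4f01a49607c223248f064ff2488e18cee22c5c3acc415cb12c0e815082124e21fd122a042298433dd070d8a10d4a01ccbd1c0713ccd33482a3402725c244106619065234c6438b53b05e3148a3a85a434b321cfb44c833f05239850134ad13ce42b0c220448428e02a4fa1e87c3e03d294dd1003c0ecdc28d083d8771d4f52f8310c89e274d50b42c35c6c2ecf21a8b843c682e894084ce255034001732d01244c707016054080440a04c0d000010400b030120241401c020140400c060380f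
def f13 : ℕ := 0x866188722488e2286e2086a1e85a258861f89e2684e1d8521585e12845b75bd5749d6d6d926491555b1b45515c6f523581bf5a9596ed867e9fb61d324c5f57d930629f27c5894552f605ec7adea5fd2d79d84791e5609455951d695a651d2b5ddd84b1da7557675d7b74d145e9d04f11a671626753d665614e5194ed9a70dc2705188013480d967f59264d908420b4d606549b2541b0481696ad4b6b54a47da85f9de77da458d43505a04fd7472dcd5c9c47255d489bc57d6b6e5ba56db85c1564951662df37c1887e5fc60de6615e37b52e7a5a75197c751d14a97876dd64f99e4e99b5c58f83d3683207651ff6b953525667851c68dcc722016553366204645177f9378398e822055a1b3545b153d215314d6b1aa59d487757d7891b689426854067d75729cf7157371d285616e6d5be579f87ddf47b9807a1d9771794a5388360a6360980997539af6a51e78164511ce719c05698c7bdd21543826ccd19c61164e330c474247e1e0d9240250789a0741a3bcfe2b84b1383f29c390cc300bcc91a4722e4cf3fc602d0621605d2c88839c8639485430452a84a37cc01f47b368db418d81d8d61d0bf0881f264193c0294409608c8f3d0920985f16c8442c46304de350790a0930801b3c418260b6230ed224e91444c2bcfd158532ace12003e3e43a110a2104a40ac2e27c370d09c44502344b71bccc1b46e2f0c81ad053285e18cb51685c2cce821ce6390c420c48124a91fd083747a3707c2f9071dcd71d4d5084f20701725c942542a244243cc2743c6619464234ec438ee3188e3a88a3148b434eb15cad44c542b0502c452134fb13cb03f0e020482428c2388a51084328c403e8a80f43c0eca63e112278360d49d3dc310c8f63d4a00b02d2846c338bd1a0c74106a32cd31ccbb34903404712e900340b81c0160541004813028140040002006008110240d01c0c0140400c0b03c0e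
def f14 : ℕ := 0x872218662488e2289a208521e85e27862158961b8761386a1f85a128455f571bc6fd60575bd6edb95655b6e96f499705b5274956c491f97edfa7f1324c5f67d5166298b621894b92f7b5eb7b1e77a52d7a98461583609a751da65191d5952c76dd84adda755d675d7a5f1145ed786799d4f93d469624e93b66d9a5851970dc2705378353882a0e82605821976559845d916c5516cd4f6bd21531ac535aa59d1e789e05f542511a268540591cf7397571dc65cdb66e1576dd56555546d12248d6b5a9307c9f37c1f161987795e6791e3605155fd45695d3745d44a9d05dd766713c665395c60281133805fe6398d539686a5487759f46dca7160c8413682e0f8193581d186599464d9254d506c9526c1696adad52d4a47d66785df5f9a350da4505a0471cd73174721c95c9be7015e569285b9f87dd8c7b9ef7a1dc765794a534802037fdfd63d906b920525a87793f58dcb711586d5f4601d2154a70cc7233c63170c43a0491fcde41c7925c980a828090273ccfe2b84e12c3f0e03926c300bcb93fccd324671a4b51785f2cc5b1690b21ce620ce4210a91204630508374dc1e87c2f8773547535cd42549424c9143c203c8210601c3c41706c621750c2204a37c7e2fcd9268990a4263d023094b63b88e3ac8b2c4b015cfd14c5615082388a8448a61104310442280a10d8370d0353dcbd2f1044147334cd2344703406f1c4b4184602c859160c339c86214e3394aa11c45424c01f4da1ecdb4187836074358762591023c922401f0881e0641d3bc1a3c06619464438c62348c3b0ed3150d3a8e9228892bcac44cab2b45014452134fc13c4c3ecc2428e1204e0200a5290a228c3d3e83e1003b0f03a3e0f92789f2709d444320c4f63d42b0b42c0b9032ed02400ba2dd012e06d330ce1b86c1a8ca31c681accb32016054110200d0500a030020480f000100241301c010140400c0e0180b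
def f15 : ℕ := 0x8861c8622488e2289e208761e87e268661686e258521a84e1785612845985b60e6f56f655bf6ee055b1918216049d375712645d59491b37e9fb6c58a625f67d5214c95153d3159d846b1eb7b1ea6a98279d2f5314d4b5e2595a65f51d51d7a689d85edda75da17552c509144ad4073d9d5d5624693d5cd6171d9a4ed19709c37057082997835bc825b96e9385755f4955b7f18b7e5886bd16615ed60de94b91e69de05197c591db759785119e7393e66dc64ea106f99682d6e64993819284615e4d5696c9f87ddb0541526b5ee6ade852d1f5297e77da4765dc5e5a050d4173574725724a5c08319483e074d95a631537bd66785a3471cc722046d98e6de016d16a7f92355d33551555a1867c9877c530791e56057f45548775a55159f5ddd35d9d046d9c7293c715994e5b88096b63522559f37c14e799a978dd47452a5c59080e006d5fd561347d120601a8779634fdcb7118f7fdae525d2154de1e42826063170e8310491fca741c333cccf0a87209c2425cb63f45614c441f841364370d0d14149a2f0251bcee238623ac5d22d0c15cb1150b0220e22084a37d122a0a6108433dc3628035284bf348d33d0d0410292f473098702647108c5f16d0b21046304383509b334f10801824c1b19cfe2d45e2cc5a398e421cae12c4e20c482a4dd420dc0fc7c0e47a354d71dc300bc752f8f23250f3fc21250952e41c2446905ced1848c3a459224e32bc51130c32ace111c80424f90f8a40e8a24447827c2e2702b33102320ca3bc6d1b81e1ac1a2401d2dc6619065438ec23460318b43a90d314b22285839cfc44ce53ec5221850134ac13c852b4e0428aa204c2114fa368db3e0402947d0f43b0f07b28cc03d8d8358f5418320c49e274760b02d1d10333910404cb3c10031c1f258bb0886c1a0922e06a064ba23c160541204014034130080c0440e004080240a01c000140400c0f02c06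
def x0 : ℕ := 0x82dc06546688e22842204de1e63d235c1b656198575b78095f46212891dc6f8e16fe0f7659412a05428b664d975b9d15b60a56849381f4110fa540df3b88e3b5b10f48d0e8b56ad07314373d8e9270eb22c3153580160732c4e744c5739a2150e0e89d965e5fd75e13509bc855fe7ed9d7e1b0739887b9c87ade9585aa7897e059a357a0c80caa309357fd3467d1c6e8645a50e7f0a62d1ae7bc5d6b4d64b89e258af13da4899db6ee078595372d326a14a7997b570825ea00821923fa014ad265a9f9184c12307b4858747c787908916d831d4cc155d386225755595dd24629fa611ec5153f581bd64047559545483f794b221a1985df14ed285120d58e04195b9205641213345d8d295b318d8c3711659d853a8356a45a1444d086146897c8256c86df353d687152f479b84b1366d5385ac401814e0c9492ce1f8752a69d6f639275544646d226185e5303021e1a8711a5fdd44953045557341123dd0214ca84340b035a07dcdb724a14150c784d2400992e0803f40a02174379f5365c779cbc3bc723c4fb1bd093e0622fcd80d00c2ec1e2ac8504e06769d67347e7c93d288c04454b26dc41d182269103d1df30da61b9c208cc4068e33fcec0d810039a15d4427a0d534cd1780971a8c73a0e20eca30b49d40cb0338520080f151d256db2291cc678436bd08281066b19b599c60b8bd404fc099292541f09cad694cb2b0413747f3d45c350110806c1300120dd85e191624f95447a728381e5736042b464be70c6d42c883cc283c9655f42406cc9212112a4451f4c60f83c17c3927c591dc2f2282c0a4121ace5050500a8ae24400064e40194174114501766d1cf29cda7d99c4f18b4f9317c1624807c5c9ed669ea1d93a66539520d74b5e30cd47778cd074ba158b9240945c51d089dd24c4e060685186912c030550f320251c0ca23ccf1c4b741098024f001c17014047049219c1c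
def x1 : ℕ := 0x6e1286f86688e22812206421e572014896f83e0c4e1974d1605b6248461058ce16394470133119b5194e28153f65137591364d464129f43e8a56cc630ecc63b169184a83b83c59c3227cea314f53a459274317bdab170af148202c0291421d839d2851d87f5a18261a6911484e0673d686c98954d317252f6b14861166779e00552380d2c834483098d5557b63d5d494456187d5386017d16524776145a4545d21cce2157c87d575d95b8593c7ed8b605ea4ea0267caa6d9bf7fdb92a5a35c1bd5a9303750e424b56b9f9791076a50d3612e2c8e7391d389e266edb46f1d67c99e665ed699b77516b744fe559ba7f03f7942f2ba1c865f0799d95615e655dc201172d9182096e6495a1118c0f950231216014c0d88b47c343f44c15e186594250591885517dd747b97352d1b6612764d1c4988d1fd521e14d22a2586d244757a8020a820e082d2b6c4626b45b2ee1585dfa79d5f5518760dda134a4280d3320400b4100496c7307a714763f01c51c1f074272b50a40c0c0099d369af355a86690142c944008f430dc2d0392cc3035806258e63949103dd076d2a7cd08671f136ca74199b35de926de3334952e5a543d71441a712c92324cf138410dc0e02d797e0427a02b1b4d14a4562f0531c0810e88e224351446b1cc6c0040015143501753e54f4687e480430b8795c91e4654a3dcbd1a8b72117e1b8281a0715f488094ed0f4a62702c3ac11330b1340082ada2565a072912734a26c0de445c871cd96a8a178902328982b0d22696577c1a3ec244121211c49304a337c7b3e05e3d8d4278752fc580841444c830341e2182a13c1315419029d77f97781dd55e1cb1f0387d98a7393e4c9624f5887d4c07ad395fdc62f93b585ec710746092d0cddd70cf23c4c33c0933a022515c21c9e13d06738c99518c405c1600cba31cf3240ef06c182e105098cb0249701c2301404704693fc6f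
def x2 : ℕ := 0x82a038006688e2255a20652246f56b835bf5b95e639334d92649e128460b83caa74601561d43f9ff428805520c765b6811dc648812d9ae2350e61cc1318f828d5037c3e3b4ec790c5360f62790d160bf228ea601ad350861b0ae2acfd40e255ddd2899da81db47fa27659d886da07c9f3735f57e1f652dec4e5e37ade8785dd0255d4716067c481918d6e96d70198814e27f0a85388e0e5b37bc77534b361437398521520e84ddb56d408758b4c97566d826b2024888257d2b56a082a5be6557a6e5f93743d1885e631b160c5b6a42c0d94c3acb120dbc8561756578689914f9517b5c75957065d444e04959117484634b85c0aa1c885af4799063d3f6dd341155511e103856364db5185f41f5522d186525e527c896ac59078e51461950d57819d08619c481b26a1815c9b848d7b4d5284b04017d69175150b61687d6c51d5c68d1b5a8654616f4c04147c301421a8518a4b5374951659d1444cc0445023c0fa27413035d77dd08798f72e10f708bd4308432ce02ec08045fa449ca2f9c879cfb3fcf22b1041bcb52987f1d50722c0f15c21340e4039d650a097387c67988108de28573355aa0cdc61c8943114605de0349e23cc703a09825d091e00602dfd72cf971106440c3778ef38c902dcc21803a358e9258852bcce040121ada45d93c36df17ec7e730a41d89b725c57a94a0b86e2b4921a57e07ccd3f0c8695050947b2948c2c8f52700a39ccc13014065d3755417c0a25d0da6c0381d1ee664d95fc2b5142223c672e86d269c377c8831d0b32a1e128460fc3c110ee0ecdc0c42f0c85a0d03521c0c13c91000291cc2013401154b0009244a97c5e5bb685531e8a74f59d5a1cf469894c54f588434ed3a7a54835d844bd61598a04659a1e5716989512c231c44e06cd369d1d0a12914ccf098565f4180701605500404f13d099324b91a01a2f06a00c9301cd101404704270901d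
def x3 : ℕ := 0x5a9926d46688e22496244d61e45e058215464d5a555ba7fdb96361284518640646f56f63d8e1193f11c45591be5b9b68060058d0a381693b88c6185e0f0413e1ae3b4ec0e909454b2164893ac343582c3d4e96ad803504d394e40644c2ae1a5b20685d915e576756187f5b489da04c5f1481626c1ca5997f78d9a6a9c477d7d01d7065122498fe1297b5e96d82d954ac80484627e47b0e58747c5c60c75790581548534124865597597884d89621f56091979d376e0658096b68d1b2a5346dd3367d3017cb40ecdc7d1b159c5a7942d435a92704f245bb85a144a9d07f9a16bdf05212d695235715665c496fdd1458b54b82f20e1c8553d7a528841366620c389d4205582da03765dc181523198c299b37bd4c228356b49d1506b44e1d81e095054086df6731f7529ea7a160575274720f8288e1fd5022d852fe21895d75193857a0d4b0c270204538a3524b32c21f8994f7195f511fc5355b330da0ace33206136001021775d0de610d908c67594fb068c93bce114002019682899c35da86641d0610b400ca31c3f0f4dd0c05b0c40c39ce607820029146f1d36287a7c99d36c381d18126d61355c712c4e0917133da614d4506c8f3c4173fc3e3a81202da47e0f95c9111586877890344cb410823e8df0dc782182915cfd04c111b1967618b1f91a7e842734c01d83352dec5cdc83dc883d0703cd7e430842f0257086f3c040438a50c89f278142bc513380e40d57689d273c436c8a472d08281ee6b02e7150669cfc2481c2e8ad2b1dd4a501414932de202a84818c7d234442a0c117477315070d8f621c001cc2a03c522c4ae25810084bb0357c76e0e50d427695329c7c4f9327ed517cd3c679ce5d512479ed4ed3a1e52f799eb724a166d392f947474c409c261c4b91a4c3789e03a1e1264982e06a70c9743c160549a1b8281b4d23349434c1f08910024f200d020140470472254bd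
def x4 : ℕ := 0x485f95386688e2461a206321e6c56961d306b9fc549b3459f454212846024886363a015752623125178c68159782937581565688e2d5643e83f4fcc11fcf80e5440f4a82983c5308714086398e413483214577bd2e2ac731b020244bb0aa257e18b871f2621317c61754d5184daf73d1a4f9ca7393d7814551d7d789465c5c2015956515c6f4613b9925a9be5c20b820625e8dd5ec7b1052b60cfd7905547cb133029341fa8698a625f588574675cd595df699984a08d48d336355417d385615e45d1b0f8400ec3a4719f600af454541494d13c211ad688761653d204c9f75d53c475dd4a518641275b4ed5b9357644459c4c07a18855625fa0c63e0d6d9b83b1552d15f439367fdba295d41f5d1371dc615e52b9136a4b040c1925a147cdfb7c1f68999c7319e69dde7856f842006e60f6fcdf425a339dab39627865b070e045ae036d460701344b0a35245133a1b87dcb695b764d636b5b21d47a310941c0821700803159758de610fb3cc6771c72090bc08c641dc0e001421f1402111e520680606e09c172e046124802245b22c010c4370b03404d91839245dc7e45179108a212d4b159aa14d821b4283c519321733493b1bc710689806ca93141203e0976cc078c4e3c8b94e8ba4009743cfe1290a3acb20c0f541cd80440a2fdbc819d8369d574d125e0a72210b7b5ec79de943110324cf3bdc834c9a3d104668ff23c81120c21688a2cc060c89e2740d0b5577f95b5d908748434a8a43f1e66b0ac528ad7141f070b71a4bd255397186a32c9324a22194b6384452a8e0388473a859174e9434581e014358d4040363d89f0d40b2702f009fd5b19681dbb6d17c3e438741a2691da50d41685d7680db7ad815fdea38dee4bda8598e87a12d30d72664cd344c73c01d24022585c94099b404ca098997110509416054d70cd111d0d50ac793dca02f8760249b01ca100c04704d90b906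
def x5 : ℕ := 0x7911f60c66892226a6204561e6b5e55252e615676ad4d601ef53212845704885b55a0f656002c96a1605c8219049e0b571946488922d8721ce77e4b1130e520d21218fd154854ac31360303d82f1d42c3d4785ed7a2fccc1b0bb3402907a1a7b181855ed5fde77a6196114b8958269945595465f9df5cdc871dc44ed195c5c301158639be6fcc53a5557fd6048e104d4594c0527d04d2ad5058c9f5109c4fc37258201ad2f84da8521e8861de789474e59a725b7804ea80a0a635b94356d575bd551ae2b8e639113619fc75107744d41ddd935821245e6872276a9e37adea775e06659b709b66e133810b380e056ccaf67c9d40e26875a57156f63d6e57d972295a3ad18175264959315d161418c13d5246da30d835470340a8191ce17479ee5992d885e15f51d5853a5c9344dd3645d28578512c1690c9dc0b61f8514a4a5385ae0d6e85a6620c6c4545909e33a1b859a7719c06d54e4b1ac1ecfb3647219c612001103159624c374c7606c8f7346d068bc3bcfe37413021fa12df52f977758c93fd103c4f03ccb53b4c6428aa118063e8c10e509041b4839fd7cd0b7c9f12110c355d826dd7445d025102405ca43d3c3359d240c82e4982e0622080a00524628885e074088245d0233d06f1c4652308e11c4a0f43c1107d0000b1059681951139b054c56480530aca145143505791e4d31a8ca2e91a1b89a074254f4261c05e234ee380451240f0fcdf1fc143e1bc81d917c0e862ce3620c435d7c76833754f7738f205d0431c283493e588681a49933e23190b6438ec18c6017cb4120a9384c23888129402370a30383e100a80e8122983b036097f9575b1bb56d682b4ac6bd327edb27e1317dd4f7d8fc689d24a9a1419a4509db5d82e501a02819c6789524ccb0710025c1f72dcf2f57509c92060d1731052dc16054db0e0a73687c300a23e4de1087a0251201c7e01403704a442043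
def g : ℕ := 0x99b0109796751a460162984d1283d564246201a08d7054cda1edc84a8d153c446896c5f943105298856258ca475cd306dc1731cd625c03b45331cd94d5a085501448db341af0d45610c6f65917631414808e32c6a5e00b81c65598072849037d324bc385411659497014a77cd9e008b1265b94308f1808808936045462b05818a1072c1d5858a5a612850dc788ef6693d271bb6a1df68de9528475fd1f2e8f43ac4f7fc5569c9a4c219258b439cff57c19138371007e1b57c87519450273cc03510a0124d20ed942e0d5204014791c1f0761c08b0b0630841f0a53e1c8392a84b0003303c730613b48d7a76d713580c0c9251d0302e52e2183a7e1a46556888e1a5d0bc379ce72a133b9aa289fd6f90a5602b491928243c3815a3eca57e8614c52b325bc6b8b515c5e30137331d5879f174e0b5a9002318f85db6515f92c84650977591213e87a0c5d61a0821915d25008489844fe021d43f7a1b2094e828d0587d93329c3695bf145f66b52d418c32c0e5785750b8e21c4102619b49cbd070540d8091495b3c167725d05c8791ad5e3f0f67182d6092c335477ac1e255037f0cf474690a9851f5390505d165495acb3034042fc9220c2f7b5a13e56e7ddb3409f586d512d84c2b5043b20f6d2187d2277717d7b9b53a5fe82206711fb671b76c5ab42d09899a65496f24dec555de61ce389134801134380a2adba6a5e77c1d9838c84a1405cd91038f763480748287613c4cd6d420a8780dd0f8841207f1b18b3a88d4e04552c13054be274c68285c05dc573d7b386163c60567dc76611b1b98e5da252243460222640c2444d77bcf83d54865d86880c170820870af6f55c665073989b440916e1e4745f21e157531154981221cf2539607513a19c9e1685b19a0c5505060cc4314063f9e6390a92ec8578cd8558fd17dac534d42de048349f80cce7a9dd769818450f4348a2b9e51de01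

def T : List ℕ := [f0, f1, f2, f3, f4, f5, f6, f7, f8, f9, f10, f11, f12, f13, f14, f15, x0, x1, x2, x3, x4, x5, g]

theorem in_f1 : InK 10 K0 f1 := InK.word inLL (l := [6, 7, 6, 6, 5, 8, 12, 12, 11, 15, 14, 15, 15, 14, 15, 16, 18, 21]) (by decide +kernel)
theorem in_f2 : InK 10 K0 f2 := InK.word inLL (l := [5, 5, 5, 5, 13, 14, 16, 16]) (by decide +kernel)
theorem in_f4 : InK 10 K0 f4 := InK.word inLL (l := [12, 9, 14, 15, 15, 17, 16, 16]) (by decide +kernel)
theorem in_f8 : InK 10 K0 f8 := InK.word inLL (l := [5, 8, 5, 6, 9, 9, 10, 10, 15, 16, 20, 22]) (by decide +kernel)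
theorem in_x0 : InK 10 K0 x0 := InK.word inLL (l := [1, 1, 3, 7, 8, 8, 7, 7, 9, 9, 12, 9, 9, 14, 16, 17, 21]) (by decide +kernel)
theorem in_x1 : InK 10 K0 x1 := InK.word inLL (l := [7, 6, 6, 6, 9, 14, 18, 16, 17, 18, 22]) (by decide +kernel)
theorem in_x2 : InK 10 K0 x2 := InK.word inLL (l := [7, 6, 7, 7, 12, 11, 12, 12, 11, 17, 20, 16, 22]) (by decide +kernel)
theorem in_x3 : InK 10 K0 x3 := InK.word inLL (l := [7, 8, 5, 5, 12, 12, 11, 11, 15, 14, 15, 15, 16, 18, 19]) (by decide +kernel)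
theorem in_x4 : InK 10 K0 x4 := InK.word inLL (l := [8, 5, 10, 11, 12, 9, 9, 9, 19, 18]) (by decide +kernel)
theorem in_x5 : InK 10 K0 x5 := InK.word inLL (l := [6, 6, 5, 8, 7, 9, 12, 12, 12, 11, 14, 18, 16, 18, 21]) (by decide +kernel)
theorem in_g : InK 10 K0 g := InK.word inLL (l := [2, 3, 1, 3, 3, 3]) (by decide +kernel)

def G4 : List ℕ := [f1, f2, f4, f8]

theorem inG4 : ∀ t ∈ G4, InK 10 K0 t := by
  intro t ht
  simp only [G4, List.mem_cons, List.not_mem_nil, or_false] at ht
  rcases ht with rfl | rfl | rfl | rfl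
  · exact in_f1
  · exact in_f2
  · exact in_f4
  · exact in_f8

theorem in_f0 : InK 10 K0 f0 := InK.word inG4 (l := []) (by decide +kernel)
theorem in_f3 : InK 10 K0 f3 := InK.word inG4 (l := [0, 1]) (by decide +kernel)
theorem in_f5 : InK 10 K0 f5 := InK.word inG4 (l := [0, 2]) (by decide +kernel)
theorem in_f6 : InK 10 K0 f6 := InK.word inG4 (l := [1, 2]) (by decide +kernel)
theorem in_f7 : InK 10 K0 f7 := InK.word inG4 (l := [0, 1, 2]) (by decide +kernel)
theorem in_f9 : InK 10 K0 f9 := InK.word inG4 (l := [0, 3]) (by decide +kernel)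
theorem in_f10 : InK 10 K0 f10 := InK.word inG4 (l := [1, 3]) (by decide +kernel)
theorem in_f11 : InK 10 K0 f11 := InK.word inG4 (l := [0, 1, 3]) (by decide +kernel)
theorem in_f12 : InK 10 K0 f12 := InK.word inG4 (l := [2, 3]) (by decide +kernel)
theorem in_f13 : InK 10 K0 f13 := InK.word inG4 (l := [0, 2, 3]) (by decide +kernel)
theorem in_f14 : InK 10 K0 f14 := InK.word inG4 (l := [1, 2, 3]) (by decide +kernel)
theorem in_f15 : InK 10 K0 f15 := InK.word inG4 (l := [0, 1, 2, 3]) (by decide +kernel)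

theorem inT : ∀ t ∈ T, InK 10 K0 t := by
  intro t ht
  simp only [T, List.mem_cons, List.not_mem_nil, or_false] at ht
  rcases ht with rfl | rfl | rfl | rfl | rfl | rfl | rfl | rfl | rfl | rfl | rfl | rfl | rfl | rfl | rfl | rfl | rfl | rfl | rfl | rfl | rfl | rfl | rfl
  · exact in_f0
  · exact in_f1
  · exact in_f2
  · exact in_f3
  · exact in_f4
  · exact in_f5
  · exact in_f6
  · exact in_f7
  · exact in_f8
  · exact in_f9
  · exact in_f10
  · exact in_f11
  · exact in_f12
  · exact in_f13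
  · exact in_f14
  · exact in_f15
  · exact in_x0
  · exact in_x1
  · exact in_x2
  · exact in_x3
  · exact in_x4
  · exact in_x5
  · exact in_g

/-- The permutations of the elementary abelian group induced by the elements over three-cycles. -/
def actT : List (List ℕ) := [[0, 11, 4, 15, 6, 13, 2, 9, 5, 14, 1, 10, 3, 8, 7, 12], [0, 2, 3, 1, 10, 8, 9, 11, 13, 15, 14, 12, 7, 5, 4, 6], [0, 3, 1, 2, 12, 15, 13, 14, 4, 7, 5, 6, 8, 11, 9, 10], [0, 9, 5, 12, 14, 7, 11, 2, 1, 8, 4, 13, 15, 6, 10, 3], [0, 10, 7, 13, 8, 2, 15, 5, 12, 6, 11, 1, 4, 14, 3, 9], [0, 8, 6, 14, 2, 10, 4, 12, 9, 1, 15, 7, 11, 3, 13, 5]]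

/-- The squares of the products of two of the elements over three-cycles. -/
def sqT : List (List ℕ) := [[0, 5, 7, 15, 10, 0], [8, 0, 3, 0, 0, 12], [14, 2, 0, 13, 4, 15], [3, 0, 6, 0, 5, 9], [11, 0, 8, 2, 0, 3], [0, 11, 5, 1, 14, 0]]

def act (i n : ℕ) : ℕ := (actT.getD i []).getD n 0
def sqr (i j : ℕ) : ℕ := (sqT.getD i []).getD j 0

/-- Words mapping `f 1` to `f n`. -/
def tw : List (List ℕ) := [[], [], [17], [18], [16, 17], [19, 17], [18, 16], [21, 16], [21], [19], [20], [16], [17, 16], [19, 16], [21, 18], [16, 18]]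

/-- Both words (in the tables `T`) have the same values. -/
def same (l l' : List ℕ) : Bool :=
  (l.all fun s => Nat.blt s 23) && (l'.all fun s => Nat.blt s 23) &&
    allBelow (fun p => Nat.beq (evalWord 10 T l p) (evalWord 10 T l' p)) 552

/-! The large checks are cut into pieces (only to make the kernel checks light). -/

theorem allBelow_of {p : ℕ → Bool} : ∀ n, (∀ x, x < n → p x = true) → allBelow p n = true
  | 0, _ => rfl
  | n + 1, h => by
    rw [allBelow, Bool.and_eq_true]
    exact ⟨h n (Nat.lt_succ_self n), allBelow_of n fun x hx => h x (Nat.lt_succ_of_lt hx)⟩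

/-- the piece `a ≤ x < a + m` of a check -/
def piece (p : ℕ → Bool) (a m : ℕ) : Bool := allBelow (fun x => p (a + x)) m

theorem piece_at {p : ℕ → Bool} {a m : ℕ} (h : piece p a m = true) {x : ℕ} (h1 : a ≤ x) (h2 : x < a + m) :
    p x = true := by
  obtain ⟨k, rfl⟩ := Nat.exists_eq_add_of_le h1
  exact allBelow_spec _ m h k (by omega)

def mulF : ℕ → Bool := fun n => allBelow (fun k => same [n, k] [n ^^^ k]) 16

theorem mul_0 : piece mulF 0 4 = true := by decide +kernel
theorem mul_4 : piece mulF 4 4 = true := by decide +kernel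
theorem mul_8 : piece mulF 8 4 = true := by decide +kernel
theorem mul_12 : piece mulF 12 4 = true := by decide +kernel

theorem mul_all : allBelow mulF 16 = true := by
  refine allBelow_of _ fun x hx => ?_
  by_cases h4 : x < 4
  · exact piece_at mul_0 (by omega) (by omega)
  by_cases h8 : x < 8
  · exact piece_at mul_4 (by omega) (by omega)
  by_cases h12 : x < 12
  · exact piece_at mul_8 (by omega) (by omega)
  exact piece_at mul_12 (by omega) (by omega)

theorem chk_mul : allBelow (fun n => allBelow (fun k => same [n, k] [n ^^^ k]) 16) 16 = true := mul_all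
def conjF : ℕ → Bool := fun i => allBelow (fun n => same [16 + i, n] [act i n, 16 + i] && Nat.blt (act i n) 16) 16

theorem conj_0 : piece conjF 0 2 = true := by decide +kernel
theorem conj_2 : piece conjF 2 2 = true := by decide +kernel
theorem conj_4 : piece conjF 4 2 = true := by decide +kernel

theorem conj_all : allBelow conjF 6 = true := by
  refine allBelow_of _ fun x hx => ?_
  by_cases h2 : x < 2
  · exact piece_at conj_0 (by omega) (by omega)
  by_cases h4 : x < 4
  · exact piece_at conj_2 (by omega) (by omega)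
  exact piece_at conj_4 (by omega) (by omega)

theorem chk_conj : allBelow (fun i => allBelow (fun n => same [16 + i, n] [act i n, 16 + i] && Nat.blt (act i n) 16) 16)
    6 = true := conj_all
theorem chk_cube : allBelow (fun i => same [16 + i, 16 + i, 16 + i] []) 6 = true := by decide +kernel
def sqF : ℕ → Bool := fun i => allBelow (fun j => (Nat.beq i j || same [16 + i, 16 + j, 16 + i, 16 + j] [sqr i j])
    && Nat.blt (sqr i j) 16) 6

theorem sq_0 : piece sqF 0 3 = true := by decide +kernel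
theorem sq_3 : piece sqF 3 3 = true := by decide +kernel

theorem sq_all : allBelow sqF 6 = true := by
  refine allBelow_of _ fun x hx => ?_
  by_cases h3 : x < 3
  · exact piece_at sq_0 (by omega) (by omega)
  exact piece_at sq_3 (by omega) (by omega)

theorem chk_sq : allBelow (fun i => allBelow (fun j => (Nat.beq i j || same [16 + i, 16 + j, 16 + i, 16 + j] [sqr i j])
    && Nat.blt (sqr i j) 16) 6) 6 = true := sq_all
theorem chk_fp : allBelow (fun n => !(Nat.beq (act 0 n) n) || Nat.beq n 0) 16 = true := by decide +kernel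
theorem chk_trans : allBelow (fun n => Nat.beq n 0 || same (tw.getD n [] ++ [1]) (n :: tw.getD n [])) 16 = true := by
  decide +kernel
theorem chk_inv : same [22, 16, 17, 1] [1, 22] = true := by decide +kernel
theorem chk_inj : allBelow (fun n => allBelow (fun k => !(Nat.beq (evalWord 10 T [n] 0) (evalWord 10 T [k] 0)) ||
    Nat.beq n k) 16) 16 = true := by decide +kernel

end Cfsg.Agent.KFacts.MulSpor.CoThreeTab
end

-- part: KFacts/MulSpor/CoThree
section
-- merged: Cfsg.Agent.KFacts.MulSpor.AffCarm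
section

/-!
# No double cover: a subgroup `2^r . A_n` of odd index, given by relations

`Dat`: elements `f 0, …, f (2^r - 1)` of the finite group `X` forming an elementary abelian subgroup and elements
`x 0, …, x (m - 1)` that satisfy Carmichael's relations modulo the `f n`.  `Dat.noDouble`: such a group has no perfect
double cover if `2 ^ r · |A_{m+2}|` is the order of `X` up to an odd factor, and some further relations hold.
-/

set_option autoImplicit false

namespace Cfsg.Agent.KFacts.MulSpor.AffCarm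

open Subgroup Equiv
open Cfsg.Agent.KFacts.MulTwo Cfsg.Agent.KFacts.MulDef
open Cfsg.Agent.Lib.AltCarmichael

/-- Data: a subgroup `2 ^ r . A_{m + 2}` of odd index. -/
structure Dat {X : Type*} [Group X] (r m : ℕ) (f x : ℕ → X) (act sq : ℕ → ℕ → ℕ) : Prop where
  inj : ∀ n < 2 ^ r, ∀ k < 2 ^ r, f n = f k → n = k
  mul : ∀ n < 2 ^ r, ∀ k < 2 ^ r, f n * f k = f (n ^^^ k)
  act_lt : ∀ i < m, ∀ n < 2 ^ r, act i n < 2 ^ r
  conj : ∀ i < m, ∀ n < 2 ^ r, x i * f n = f (act i n) * x i
  cube : ∀ i < m, x i ^ 3 = 1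
  sq_lt : ∀ i < m, ∀ j < m, sq i j < 2 ^ r
  sq : ∀ i < m, ∀ j < m, i ≠ j → (x i * x j) ^ 2 = f (sq i j)
  fp : ∀ n < 2 ^ r, act 0 n = n → n = 0
  trans : ∀ n < 2 ^ r, n ≠ 0 → ∃ g : X, g * f 1 * g⁻¹ = f n
  inv : ∃ k < 2 ^ r, ∃ g, g * (x 0 * x 1 * f k) * g⁻¹ = f 1
  card : ∃ l, Nat.card X = 2 ^ r * Nat.card (alternatingGroup (Fin (m + 2))) * (2 * l + 1)

namespace Dat

variable {X : Type*} [Group X] {r m : ℕ} {f x : ℕ → X} {act sq : ℕ → ℕ → ℕ} (H : Dat r m f x act sq)
include H

theorem f_zero : f 0 = 1 := by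
  have h := H.mul 0 (Nat.two_pow_pos r) 0 (Nat.two_pow_pos r)
  rw [Nat.xor_self] at h
  exact mul_eq_left.1 h

theorem f_sq {n : ℕ} (hn : n < 2 ^ r) : f n * f n = 1 := by
  rw [H.mul n hn n hn, Nat.xor_self, H.f_zero]

/-- the elementary abelian subgroup -/
def E : Subgroup X where
  carrier := {g | ∃ n < 2 ^ r, g = f n}
  one_mem' := ⟨0, Nat.two_pow_pos r, H.f_zero.symm⟩
  mul_mem' := by
    rintro _ _ ⟨n, hn, rfl⟩ ⟨k, hk, rfl⟩
    exact ⟨n ^^^ k, Nat.xor_lt_two_pow hn hk, H.mul n hn k hk⟩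
  inv_mem' := by
    rintro _ ⟨n, hn, rfl⟩
    exact ⟨n, hn, inv_eq_of_mul_eq_one_left (H.f_sq hn)⟩

theorem mem_E {g : X} : g ∈ H.E ↔ ∃ n < 2 ^ r, g = f n := Iff.rfl

theorem f_mem {n : ℕ} (hn : n < 2 ^ r) : f n ∈ H.E := ⟨n, hn, rfl⟩

theorem E_sq {a : X} (ha : a ∈ H.E) : a * a = 1 := by
  obtain ⟨n, hn, rfl⟩ := ha
  exact H.f_sq hn

theorem E_comm {a b : X} (ha : a ∈ H.E) (hb : b ∈ H.E) : a * b = b * a := by
  obtain ⟨n, hn, rfl⟩ := ha
  obtain ⟨k, hk, rfl⟩ := hb
  rw [H.mul n hn k hk, H.mul k hk n hn, Nat.xor_comm]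

theorem card_E : Nat.card H.E = 2 ^ r := by
  let g : Fin (2 ^ r) → H.E := fun i => ⟨f i, H.f_mem i.2⟩
  have hg : Function.Bijective g := by
    constructor
    · intro i j hij
      exact Fin.ext (H.inj i i.2 j j.2 (congrArg Subtype.val hij))
    · rintro ⟨_, n, hn, rfl⟩
      exact ⟨⟨n, hn⟩, rfl⟩
  rw [← Nat.card_congr (Equiv.ofBijective g hg), Nat.card_eq_fintype_card, Fintype.card_fin]

theorem x_conj {i : ℕ} (hi : i < m) {a : X} (ha : a ∈ H.E) : x i * a * (x i)⁻¹ ∈ H.E := by
  obtain ⟨n, hn, rfl⟩ := ha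
  rw [H.conj i hi n hn, mul_inv_cancel_right]
  exact H.f_mem (H.act_lt i hi n hn)

theorem x_inv {i : ℕ} (hi : i < m) : (x i)⁻¹ = x i * x i := by
  rw [inv_eq_iff_mul_eq_one, ← mul_assoc, ← pow_two, ← pow_succ, H.cube i hi]

/-- the subgroup of odd index -/
def N (_ : Dat r m f x act sq) : Subgroup X := closure ({g | ∃ n < 2 ^ r, g = f n} ∪ {g | ∃ i < m, g = x i})

theorem E_le : H.E ≤ H.N := fun _ hg => subset_closure (Or.inl hg)

theorem x_mem {i : ℕ} (hi : i < m) : x i ∈ H.N := subset_closure (Or.inr ⟨i, hi, rfl⟩)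

theorem N_norm {g : X} (hg : g ∈ H.N) : ∀ a ∈ H.E, g * a * g⁻¹ ∈ H.E := by
  induction hg using closure_induction with
  | mem g hg =>
    rcases hg with hg | ⟨i, hi, rfl⟩
    · intro a ha
      exact mul_mem (mul_mem hg ha) (inv_mem hg)
    · exact fun a ha => H.x_conj hi ha
  | one => intro a ha; simpa using ha
  | mul g k _ _ hg hk =>
    intro a ha
    have : g * k * a * (g * k)⁻¹ = g * (k * a * k⁻¹) * g⁻¹ := by group
    rw [this]
    exact hg _ (hk _ ha)
  | inv g hg' hg =>
    -- conjugation by `g` is injective on the finite set `E`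
    have hfin : Finite H.E := Nat.finite_of_card_ne_zero (by rw [H.card_E]; positivity)
    let c : H.E → H.E := fun a => ⟨g * a * g⁻¹, hg a a.2⟩
    have hc : Function.Injective c := by
      intro a b hab
      have : g * a * g⁻¹ = g * b * g⁻¹ := congrArg Subtype.val hab
      exact Subtype.ext (mul_left_cancel (mul_right_cancel this))
    intro a ha
    obtain ⟨b, hb⟩ := (Finite.injective_iff_surjective.1 hc) ⟨a, ha⟩
    have hb' : g * b * g⁻¹ = a := congrArg Subtype.val hb
    have : g⁻¹ * a * g⁻¹⁻¹ = b := by rw [← hb']; group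
    rw [this]
    exact b.2

theorem normal : (H.E.subgroupOf H.N).Normal := ⟨fun n hn g =>
  mem_subgroupOf.2 (H.N_norm g.2 n (mem_subgroupOf.1 hn))⟩

theorem x_not_mem (hr : 1 ≤ r) (hm : 1 ≤ m) : x 0 ∉ H.E := by
  intro h
  have h1 : (1 : ℕ) < 2 ^ r := Nat.one_lt_two_pow (by omega)
  have h2 := H.E_comm h (H.f_mem h1)
  rw [H.conj 0 (by omega) 1 h1] at h2
  have h3 := H.inj _ (H.act_lt 0 (by omega) 1 h1) _ h1 (mul_right_cancel h2)
  have := H.fp 1 h1 h3
  omega

/-- The homomorphism onto the alternating group. -/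
theorem exists_rho (hr : 1 ≤ r) (hm : 3 ≤ m) : ∃ ρ : H.N →* alternatingGroup (Fin (m + 2)), Function.Surjective ρ ∧
    (∀ g : H.N, ρ g = 1 ↔ (g : X) ∈ H.E) ∧ ∀ i (hi : i < m), ρ ⟨x i, H.x_mem hi⟩ = ⟨cyc m i, cyc_mem m i hi⟩ := by
  classical
  have hn := H.normal
  let q : H.N →* H.N ⧸ (H.E.subgroupOf H.N) := QuotientGroup.mk' _
  have hq : ∀ g : H.N, q g = 1 ↔ (g : X) ∈ H.E := fun g => by
    show (QuotientGroup.mk g : H.N ⧸ (H.E.subgroupOf H.N)) = 1 ↔ _
    rw [QuotientGroup.eq_one_iff]; exact mem_subgroupOf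
  let y : ℕ → H.N ⧸ (H.E.subgroupOf H.N) := fun i => if hi : i < m then q ⟨x i, H.x_mem hi⟩ else 1
  have hy : ∀ i (hi : i < m), y i = q ⟨x i, H.x_mem hi⟩ := fun i hi => dif_pos hi
  have hrel : Rel m y := by
    constructor
    · intro i hi
      rw [hy i hi, ← map_pow, hq]
      show x i ^ 3 ∈ H.E
      rw [H.cube i hi]; exact one_mem _
    · intro i hi j hj hij
      rw [hy i hi, hy j hj, ← map_mul, ← map_pow, hq]
      show (x i * x j) ^ 2 ∈ H.E
      rw [H.sq i hi j hj hij]
      exact H.f_mem (H.sq_lt i hi j hj)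
  obtain ⟨φ, hφ⟩ := exists_hom (by omega) hrel
  have hsimple : IsSimpleGroup (alternatingGroup (Fin (m + 2))) :=
    alternatingGroup.isSimpleGroup (by rw [Nat.card_eq_fintype_card, Fintype.card_fin]; omega)
  have hinj : Function.Injective φ := by
    rw [← MonoidHom.ker_eq_bot_iff]
    rcases (inferInstance : φ.ker.Normal).eq_bot_or_eq_top with hb | ht
    · exact hb
    · exfalso
      have h1 : (⟨cyc m 0, cyc_mem m 0 (by omega)⟩ : alternatingGroup (Fin (m + 2))) ∈ φ.ker := by
        rw [ht]; exact mem_top _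
      have h2 : y 0 = 1 := by rw [← hφ 0 (by omega)]; exact h1
      rw [hy 0 (by omega), hq] at h2
      exact H.x_not_mem hr (by omega) h2
  have hsurj : ∀ g (hg : g ∈ H.N), q ⟨g, hg⟩ ∈ φ.range := by
    intro g hg
    induction hg using closure_induction with
    | mem g hg =>
      rcases hg with hg | ⟨i, hi, rfl⟩
      · have h1 : q ⟨g, subset_closure (Or.inl hg)⟩ = 1 := (hq _).2 hg
        rw [h1]; exact one_mem _
      · exact ⟨_, (hφ i hi).trans (hy i hi)⟩
    | one =>
      have h1 : q ⟨1, one_mem _⟩ = 1 := (hq _).2 (one_mem _)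
      rw [h1]; exact one_mem _
    | mul a b ha hb h1 h2 =>
      have h3 : q ⟨a * b, mul_mem ha hb⟩ = q ⟨a, ha⟩ * q ⟨b, hb⟩ := by rw [← map_mul]; rfl
      rw [h3]; exact mul_mem h1 h2
    | inv a ha h1 =>
      have h3 : q ⟨a⁻¹, inv_mem ha⟩ = (q ⟨a, ha⟩)⁻¹ := by rw [← map_inv]; rfl
      rw [h3]; exact inv_mem h1
  have hsurj' : Function.Surjective φ := by
    intro z
    induction z using QuotientGroup.induction_on with
    | H g => exact hsurj g g.2
  let e : alternatingGroup (Fin (m + 2)) ≃* H.N ⧸ (H.E.subgroupOf H.N) := MulEquiv.ofBijective φ ⟨hinj, hsurj'⟩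
  refine ⟨e.symm.toMonoidHom.comp q, ?_, ?_, ?_⟩
  · exact e.symm.surjective.comp (QuotientGroup.mk'_surjective _)
  · intro g
    rw [← hq]
    exact e.symm.map_eq_one_iff
  · intro i hi
    show e.symm (q ⟨x i, H.x_mem hi⟩) = _
    rw [MulEquiv.symm_apply_eq, ← hy i hi]
    exact (hφ i hi).symm

theorem card_N (hr : 1 ≤ r) (hm : 3 ≤ m) : Nat.card H.N = 2 ^ r * Nat.card (alternatingGroup (Fin (m + 2))) := by
  obtain ⟨ρ, hs, hk, -⟩ := H.exists_rho hr hm
  have h1 : Nat.card ρ.ker * Nat.card (alternatingGroup (Fin (m + 2))) = Nat.card H.N := by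
    rw [← (ρ.ker).card_mul_index, index_ker, MonoidHom.range_eq_top.2 hs, card_top]
  have h2 : ρ.ker = H.E.subgroupOf H.N := by
    ext g
    rw [MonoidHom.mem_ker, hk, mem_subgroupOf]
  rw [← h1, h2, Nat.card_congr (subgroupOfEquivOfLe H.E_le).toEquiv, H.card_E]

theorem not_dvd_index (hr : 1 ≤ r) (hm : 3 ≤ m) : ¬ 2 ∣ H.N.index := by
  obtain ⟨l, hl⟩ := H.card
  have h1 := H.N.card_mul_index
  rw [hl, H.card_N hr hm] at h1
  have h2 : 0 < 2 ^ r * Nat.card (alternatingGroup (Fin (m + 2))) := Nat.mul_pos (Nat.two_pow_pos r) Nat.card_pos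
  have h3 := Nat.eq_of_mul_eq_mul_left h2 h1
  omega

/-! ### The double cover -/

variable {L : Type*} [Group L] {π : L →* X} {c : L}

omit H in
theorem mem_closure_cases {G : Type*} [Group G] {u v w : G} (hu : u * u = 1) (hv : v * v = 1) (huv : u * v = v * u)
    (hw : w ∈ closure ({u, v, 1} : Set G)) : w = 1 ∨ w = u ∨ w = v ∨ w = u * v := by
  have hui : u⁻¹ = u := inv_eq_of_mul_eq_one_left hu
  have hvi : v⁻¹ = v := inv_eq_of_mul_eq_one_left hv
  induction hw using closure_induction with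
  | mem x hx =>
    rcases hx with rfl | rfl | rfl
    · exact Or.inr (Or.inl rfl)
    · exact Or.inr (Or.inr (Or.inl rfl))
    · exact Or.inl rfl
  | one => exact Or.inl rfl
  | mul x y _ _ hx hy =>
    have e1 : u * (u * v) = v := by rw [← mul_assoc, hu, one_mul]
    have e2 : v * (u * v) = u := by rw [huv, ← mul_assoc, hv, one_mul]
    have e3 : u * v * u = v := by rw [huv, mul_assoc, hu, mul_one]
    have e4 : u * v * v = u := by rw [mul_assoc, hv, mul_one]
    have e5 : u * v * (u * v) = 1 := by rw [← mul_assoc, e3, hv]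
    rcases hx with rfl | rfl | rfl | rfl <;> rcases hy with rfl | rfl | rfl | rfl <;>
      simp only [one_mul, mul_one, hu, hv, e1, e2, e3, e4, e5, ← huv, true_or, or_true]
  | inv x _ hx =>
    rcases hx with rfl | rfl | rfl | rfl
    · simp
    · rw [hui]; simp
    · rw [hvi]; simp
    · right; right; right
      rw [mul_inv_rev, hui, hvi, huv]

theorem sqA (hr : 3 ≤ r) (hd : Dbl π c) : ∀ a ∈ H.E.comap π, a * a = 1 := by
  classical
  have hc : π c = 1 := (hd.ker c).2 (Or.inr rfl)
  have key : ∀ a ∈ H.E.comap π, ∀ b ∈ H.E.comap π, ∃ d ∈ H.E.comap π, d ∉ closure ({a, b, c} : Set L) := by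
    intro a ha b hb
    obtain ⟨k, hk, hk'⟩ : ∃ k ∈ H.E, k ∉ closure ({π a, π b, 1} : Set X) := by
      by_contra hno
      push Not at hno
      have h1 : (H.E : Set X) ⊆ (({1, π a, π b, π a * π b} : Finset X) : Set X) := by
        intro k hk
        have := mem_closure_cases (H.E_sq ha) (H.E_sq hb) (H.E_comm ha hb) (hno k hk)
        simpa using this
      have h2 := Set.ncard_le_ncard h1 (Finset.finite_toSet _)
      rw [Set.ncard_coe_finset] at h2
      have h3 : (H.E : Set X).ncard = 2 ^ r := H.card_E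
      have h4 := Finset.card_le_four (a := (1 : X)) (b := π a) (c := π b) (d := π a * π b)
      have h5 : 2 ^ 3 ≤ 2 ^ r := Nat.pow_le_pow_right (by norm_num) hr
      omega
    obtain ⟨d, rfl⟩ := hd.surj k
    refine ⟨d, hk, fun hdc => hk' ?_⟩
    have h1 : π d ∈ (closure ({a, b, c} : Set L)).map π := mem_map_of_mem _ hdc
    rwa [MonoidHom.map_closure, Set.image_insert_eq, Set.image_insert_eq, Set.image_singleton, hc] at h1
  have htr : ∀ n < 2 ^ r, n ≠ 0 → ∀ k < 2 ^ r, k ≠ 0 → ∃ g : X, g * f n * g⁻¹ = f k := by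
    intro n hn hn0 k hk hk0
    obtain ⟨g, hg⟩ := H.trans n hn hn0
    obtain ⟨g', hg'⟩ := H.trans k hk hk0
    refine ⟨g' * g⁻¹, ?_⟩
    rw [← hg, ← hg']; group
  refine sq_eq_one_of_trans (P := ⊤) hd.ne hd.cen hd.sq (show π c ∈ H.E by rw [hc]; exact one_mem _) ?_ ?_ key ?_
  · intro a ha
    rw [← hd.ker, map_mul]
    exact H.E_sq ha
  · intro a ha b hb ha1 hac hb1 hbc
    obtain ⟨n, hn, han⟩ := ha
    obtain ⟨k, hk, hbk⟩ := hb
    have hn0 : n ≠ 0 := by
      rintro rfl
      have : π a = 1 := han.trans H.f_zero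
      exact ((hd.ker a).1 this).elim ha1 hac
    have hk0 : k ≠ 0 := by
      rintro rfl
      have : π b = 1 := hbk.trans H.f_zero
      exact ((hd.ker b).1 this).elim hb1 hbc
    obtain ⟨g, hg⟩ := htr n hn hn0 k hk hk0
    obtain ⟨g, rfl⟩ := hd.surj g
    refine ⟨g, mem_top _, ?_⟩
    have h1 : π (b⁻¹ * (g * a * g⁻¹)) = 1 := by
      rw [map_mul, map_mul, map_mul, map_inv, map_inv]
      change π a = f n at han
      change π b = f k at hbk
      rw [han, hbk, hg, inv_mul_cancel]
    rcases (hd.ker _).1 h1 with h2 | h2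
    · left; exact (inv_mul_eq_one.1 h2).symm
    · right; rw [← h2]; group
  · intro a ha
    obtain ⟨d, hd, hd'⟩ := key a ha a ha
    refine ⟨d, hd, fun h => hd' ?_⟩
    rwa [Set.insert_eq_of_mem (Set.mem_insert a {c})]

/-- **No double cover.** -/
theorem false [Finite L] (hr : 3 ≤ r) (hm : 6 ≤ m) (hd : Dbl π c) : False := by
  classical
  obtain ⟨ρ₀, hs, hk, hx⟩ := H.exists_rho (by omega) (by omega)
  have hc : π c = 1 := (hd.ker c).2 (Or.inr rfl)
  let πN : H.N.comap π →* H.N := π.subgroupComap H.N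
  have hπN : ∀ g : H.N.comap π, ((πN g : H.N) : X) = π g := fun g => rfl
  have hπs : Function.Surjective πN := by
    rintro ⟨y, hy⟩
    obtain ⟨g, rfl⟩ := hd.surj y
    exact ⟨⟨g, hy⟩, rfl⟩
  let ρ : H.N.comap π →* alternatingGroup (Fin (m + 2)) := ρ₀.comp πN
  have hρ : ∀ g, ρ g = ρ₀ (πN g) := fun g => rfl
  have hρs : Function.Surjective ρ := hs.comp hπs
  have hcyc : ∀ i (hi : i < m), (cyc m i).IsThreeCycle := by
    intro i hi
    rw [cyc_def]
    have h1 : Fin.ofNat (m + 2) i ≠ Fin.ofNat (m + 2) m := ofNat_ne (by omega) (by omega) (by omega)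
    have h2 : Fin.ofNat (m + 2) i ≠ Fin.ofNat (m + 2) (m + 1) := ofNat_ne (by omega) (by omega) (by omega)
    have h3 : Fin.ofNat (m + 2) m ≠ Fin.ofNat (m + 2) (m + 1) := ofNat_ne (by omega) (by omega) (by omega)
    rw [swap_comm (Fin.ofNat (m + 2) i)]
    exact Perm.isThreeCycle_swap_mul_swap_same h1.symm h3 h2
  have hsqA := H.sqA hr hd
  have HA : AffAlt.Aff c (H.N.comap π) (H.E.comap π) ρ := by
    refine ⟨?_, ?_, ?_, ?_, ?_, hsqA, ?_, ?_⟩
    · rw [index_comap_of_surjective _ hd.surj]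
      exact H.not_dvd_index (by omega) (by omega)
    · show π c ∈ H.E
      rw [hc]; exact one_mem _
    · exact comap_mono H.E_le
    · intro g
      rw [hρ, hk]; rfl
    · exact hρs
    · -- fixed points
      intro d hd3 a ha hda
      obtain ⟨k, hk3⟩ := isConj_iff.1 (alternatingGroup.isThreeCycle_isConj
        (by rw [Nat.card_eq_fintype_card, Fintype.card_fin]; omega) hd3
        (τ := ⟨cyc m 0, cyc_mem m 0 (by omega)⟩) (hcyc 0 (by omega)))
      obtain ⟨g, rfl⟩ := hρs k
      -- the conjugated elements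
      have h1 : ρ₀ (πN (g * d * g⁻¹) * (⟨x 0, H.x_mem (by omega)⟩ : H.N)⁻¹) = 1 := by
        rw [map_mul, map_inv, ← hρ, hx 0 (by omega), map_mul, map_mul, map_inv, hk3, mul_inv_cancel]
      rw [hk] at h1
      have h2 : π (g * d * (g : L)⁻¹) * (x 0)⁻¹ ∈ H.E := h1
      have h3 : π (g * a * (g : L)⁻¹) ∈ H.E := by
        have := H.N_norm (g := π (g : L)) g.2 (π a) ha
        rwa [map_mul, map_mul, map_inv]
      have h4 : (g * d * (g : L)⁻¹) * (g * a * (g : L)⁻¹) * (g * d * (g : L)⁻¹)⁻¹ = g * a * (g : L)⁻¹ := by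
        calc (g * d * (g : L)⁻¹) * (g * a * (g : L)⁻¹) * (g * d * (g : L)⁻¹)⁻¹
            = g * (d * a * (d : L)⁻¹) * (g : L)⁻¹ := by group
          _ = _ := by rw [hda]
      obtain ⟨n, hn, hfn⟩ := h3
      have h5 := congrArg π h4
      rw [map_mul, map_mul, map_inv, hfn] at h5
      set z := π (g * d * (g : L)⁻¹) with hz
      have h6 : z = (z * (x 0)⁻¹) * x 0 := by group
      have h7 : (z * (x 0)⁻¹) * f (act 0 n) * (z * (x 0)⁻¹)⁻¹ = f n := by
        calc (z * (x 0)⁻¹) * f (act 0 n) * (z * (x 0)⁻¹)⁻¹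
            = (z * (x 0)⁻¹) * (f (act 0 n) * x 0) * z⁻¹ := by group
          _ = (z * (x 0)⁻¹) * (x 0 * f n) * z⁻¹ := by rw [H.conj 0 (by omega) n hn]
          _ = z * f n * z⁻¹ := by group
          _ = f n := h5
      rw [H.E_comm h2 (H.f_mem (H.act_lt 0 (by omega) n hn)), mul_inv_cancel_right] at h7
      have h8 := H.fp n hn (H.inj _ (H.act_lt 0 (by omega) n hn) _ hn h7)
      subst h8
      rw [H.f_zero] at hfn
      have h9 : π a = 1 := by
        rw [map_mul, map_mul, map_inv] at hfn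
        calc π a = (π (g : L))⁻¹ * (π g * π a * (π (g : L))⁻¹) * π g := by group
          _ = 1 := by rw [hfn]; group
      exact (hd.ker a).1 h9
    · -- the involution
      obtain ⟨k, hk', g, hg⟩ := H.inv
      have hm1 : (1 : ℕ) < 2 ^ r := Nat.one_lt_two_pow (by omega)
      obtain ⟨g, rfl⟩ := hd.surj g
      obtain ⟨u, hu⟩ := hd.surj (f 1)
      have huA : u ∈ H.E.comap π := by
        show π u ∈ H.E
        rw [hu]; exact H.f_mem hm1
      have hxk : x 0 * x 1 * f k ∈ H.N :=
        mul_mem (mul_mem (H.x_mem (by omega)) (H.x_mem (by omega))) (H.E_le (H.f_mem hk'))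
      have hv : π (g⁻¹ * u * g) = x 0 * x 1 * f k := by
        rw [map_mul, map_mul, map_inv, hu, ← hg]; group
      refine ⟨⟨g⁻¹ * u * g, show π _ ∈ H.N by rw [hv]; exact hxk⟩, ?_, ?_⟩
      · apply Subtype.ext
        show g⁻¹ * u * g * (g⁻¹ * u * g) = 1
        have : g⁻¹ * u * g * (g⁻¹ * u * g) = g⁻¹ * (u * u) * g := by group
        rw [this, hsqA u huA]; group
      · refine ⟨_, _, _, _, ofNat_ne (m := m) (i := 0) (j := m) (by omega) (by omega) (by omega),
          ofNat_ne (m := m) (i := 0) (j := 1) (by omega) (by omega) (by omega),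
          ofNat_ne (m := m) (i := 0) (j := m + 1) (by omega) (by omega) (by omega),
          ofNat_ne (m := m) (i := m) (j := 1) (by omega) (by omega) (by omega),
          ofNat_ne (m := m) (i := m) (j := m + 1) (by omega) (by omega) (by omega),
          ofNat_ne (m := m) (i := 1) (j := m + 1) (by omega) (by omega) (by omega), ?_⟩
        rw [← AffAlt.cyc_mul_cyc (by omega), hρ]
        have h1 : πN ⟨g⁻¹ * u * g, show π _ ∈ H.N by rw [hv]; exact hxk⟩ =
            (⟨x 0, H.x_mem (by omega)⟩ : H.N) * ⟨x 1, H.x_mem (by omega)⟩ * ⟨f k, H.E_le (H.f_mem hk')⟩ :=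
          Subtype.ext hv
        rw [h1, map_mul, map_mul, hx 0 (by omega), hx 1 (by omega), (hk ⟨f k, _⟩).2 (H.f_mem hk'), mul_one]
        rfl
  exact HA.false hd.toCtr hm

theorem noDouble (hr : 3 ≤ r) (hm : 6 ≤ m) : NoDouble X := fun _ _ _ _ _ hd => H.false hr hm hd

end Dat

end Cfsg.Agent.KFacts.MulSpor.AffCarm

end

-- merged: Cfsg.Agent.KFacts.MulSpor.CoThree
section

/-!
# The Schur multiplier of Conway's group Co3 has odd order

`noDouble : NoDouble Cfsg.Spor.Co3`, from the subgroup `2^4 . A_8` of odd index (`AffCarm`).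
-/

set_option autoImplicit false

namespace Cfsg.Agent.KFacts.MulSpor.CoThree

open Cfsg.Agent.SporadicStructure.PermChain Cfsg.Agent.McLType.Chain Cfsg.Agent.Schreier.CoThreeGens
open Cfsg.Agent.KFacts.MulSpor.CoThreeTab Cfsg.Agent.KFacts.MulDef
open Cfsg.Agent.LeechPack.X552 Cfsg.Agent.Schreier.CoThreeCent

/-! ### Elements described by tables -/

section el

variable {w m : ℕ} {K : Subgroup (Equiv.Perm (Fin m))} {ts : List ℕ} (hT : ∀ t ∈ ts, InK w K t)

open Classical in
/-- The element of `K` with the table number `k`. -/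
noncomputable def el (k : ℕ) : K :=
  if h : k < ts.length then ⟨(hT _ (List.getElem_mem h)).choose, (hT _ (List.getElem_mem h)).choose_spec.1⟩ else 1

theorem el_val {k : ℕ} (h : k < ts.length) (p : Fin m) :
    (((el hT k : K) : Equiv.Perm (Fin m)) p : ℕ) = look w (ts.getD k 0) p := by
  have e : el hT k = ⟨(hT _ (List.getElem_mem h)).choose, (hT _ (List.getElem_mem h)).choose_spec.1⟩ := dif_pos h
  rw [e, List.getD_eq_getElem _ _ h]
  exact (hT _ (List.getElem_mem h)).choose_spec.2 p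

theorem prod_val (l : List ℕ) (hl : ∀ s ∈ l, s < ts.length) (p : Fin m) :
    ((((l.map (el hT)).prod : K) : Equiv.Perm (Fin m)) p : ℕ) = evalWord w ts l p := by
  have h1 : (((l.map (el hT)).prod : K) : Equiv.Perm (Fin m)) =
      (l.map fun k => ((el hT k : K) : Equiv.Perm (Fin m))).prod := by
    induction l with
    | nil => rfl
    | cons s l ih =>
      rw [List.map_cons, List.prod_cons, List.map_cons, List.prod_cons, Subgroup.coe_mul,
        ih fun s hs => hl s (List.mem_cons_of_mem _ hs)]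
  rw [h1]
  exact evalWord_spec ts (fun k => ((el hT k : K) : Equiv.Perm (Fin m))) l (fun s hs p => el_val hT (hl s hs) p) p

theorem prod_eq {l l' : List ℕ} (hl : ∀ s ∈ l, s < ts.length) (hl' : ∀ s ∈ l', s < ts.length)
    (h : allBelow (fun p => Nat.beq (evalWord w ts l p) (evalWord w ts l' p)) m = true) :
    (l.map (el hT)).prod = (l'.map (el hT)).prod := by
  apply Subtype.ext
  apply Equiv.ext
  intro p
  apply Fin.ext
  rw [prod_val hT l hl, prod_val hT l' hl']
  exact Nat.eq_of_beq_eq_true (allBelow_spec _ _ h p p.2)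

end el

/-! ### The relations -/

theorem blt_of {a b : ℕ} (h : Nat.blt a b = true) : a < b := by rwa [Nat.blt_eq] at h

theorem beq_of {a b : ℕ} (h : a = b) : Nat.beq a b = true := by rw [h]; exact Nat.beq_refl b

/-- The elements. -/
noncomputable def e (k : ℕ) : K0 := el inT k

theorem rel {l l' : List ℕ} (h : same l l' = true) : (l.map e).prod = (l'.map e).prod := by
  unfold same at h
  rw [Bool.and_eq_true, Bool.and_eq_true, List.all_eq_true, List.all_eq_true] at h
  exact prod_eq inT (fun s hs => blt_of (h.1.1 s hs)) (fun s hs => blt_of (h.1.2 s hs)) h.2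

theorem below {p : ℕ → Bool} {n : ℕ} (h : allBelow p n = true) {x : ℕ} (hx : x < n) : p x = true :=
  allBelow_spec p n h x hx

theorem dat (hcard : ∃ l, Nat.card K0 = 2 ^ 4 * Nat.card (alternatingGroup (Fin (6 + 2))) * (2 * l + 1)) :
    AffCarm.Dat 4 6 e (fun i => e (16 + i)) act sqr where
  inj := by
    intro n hn k hk h
    have h1 := below (below chk_inj hn) hk
    have hn' : n < T.length := lt_of_lt_of_le hn (by decide)
    have hk' : k < T.length := lt_of_lt_of_le hk (by decide)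
    have h2 : Nat.beq (evalWord 10 T [n] 0) (evalWord 10 T [k] 0) = true := by
      have e1 := el_val inT hn' 0
      have e2 := el_val inT hk' 0
      have e3 : el inT n = el inT k := h
      rw [e3] at e1
      have e4 : look 10 (T.getD n 0) ((0 : Fin 552) : ℕ) = look 10 (T.getD k 0) ((0 : Fin 552) : ℕ) :=
        e1.symm.trans e2
      exact beq_of e4
    simp only [h2, Bool.not_true, Bool.false_or] at h1
    exact Nat.eq_of_beq_eq_true h1
  mul := by
    intro n hn k hk
    have := rel (below (below chk_mul hn) hk)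
    simpa using this
  act_lt := by
    intro i hi n hn
    have := below (below chk_conj hi) hn
    rw [Bool.and_eq_true] at this
    exact blt_of this.2
  conj := by
    intro i hi n hn
    have h1 := below (below chk_conj hi) hn
    rw [Bool.and_eq_true] at h1
    have := rel h1.1
    simpa using this
  cube := by
    intro i hi
    have := rel (below chk_cube hi)
    simp only [List.map_cons, List.map_nil, List.prod_cons, List.prod_nil, mul_one] at this
    rw [pow_succ, pow_two, mul_assoc]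
    exact this
  sq_lt := by
    intro i hi j hj
    have := below (below chk_sq hi) hj
    rw [Bool.and_eq_true] at this
    exact blt_of this.2
  sq := by
    intro i hi j hj hij
    have h1 := below (below chk_sq hi) hj
    rw [Bool.and_eq_true, Bool.or_eq_true] at h1
    have h2 : same [16 + i, 16 + j, 16 + i, 16 + j] [sqr i j] = true :=
      h1.1.resolve_left fun h => hij (Nat.eq_of_beq_eq_true h)
    have := rel h2
    simp only [List.map_cons, List.map_nil, List.prod_cons, List.prod_nil, mul_one] at this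
    rw [pow_two, mul_assoc]
    exact this
  fp := by
    intro n hn h
    have h1 := below chk_fp hn
    rw [h] at h1
    have h2 : Nat.beq n n = true := Nat.beq_refl n
    simp only [h2, Bool.not_true, Bool.false_or] at h1
    exact Nat.eq_of_beq_eq_true h1
  trans := by
    intro n hn hn0
    have h1 := below chk_trans hn
    rw [Bool.or_eq_true] at h1
    have h2 := rel (h1.resolve_left fun h => hn0 (Nat.eq_of_beq_eq_true h))
    refine ⟨((tw.getD n []).map e).prod, ?_⟩
    rw [List.map_append, List.prod_append, List.map_cons, List.prod_cons, List.map_cons, List.map_nil,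
      List.prod_nil, mul_one, List.prod_cons] at h2
    rw [h2, mul_inv_cancel_right]
  inv := by
    refine ⟨1, by norm_num, e 22, ?_⟩
    have := rel chk_inv
    simp only [List.map_cons, List.map_nil, List.prod_cons, List.prod_nil, mul_one] at this
    show e 22 * (e 16 * e 17 * e 1) * (e 22)⁻¹ = e 1
    rw [mul_inv_eq_iff_eq_mul, ← this]
    group
  card := hcard

theorem card_alt : Nat.card (alternatingGroup (Fin (6 + 2))) = 20160 := by
  have : Nontrivial (Fin (6 + 2)) := ⟨⟨0, 1, by decide⟩⟩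
  have h := two_mul_card_alternatingGroup (α := Fin (6 + 2))
  rw [Fintype.card_perm, Fintype.card_fin] at h
  rw [Nat.card_eq_fintype_card]
  have h2 : (6 + 2).factorial = 40320 := by decide
  omega

theorem card_K0 : Nat.card K0 = 495766656000 := by
  rw [K0_eq]; exact card_range

theorem noDouble_K0 : NoDouble K0 :=
  (dat ⟨768487, by rw [card_K0, card_alt]; norm_num⟩).noDouble (by norm_num) (by norm_num)

theorem noDouble_G3 : NoDouble G3 := by
  have h : NoDouble ψ.range := by rw [← K0_eq]; exact noDouble_K0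
  exact h.congr (MonoidHom.ofInjective ψ_injective).symm

/-- **The multiplier of Co3 has odd order.** -/
theorem noDouble : NoDouble Cfsg.Spor.Co3 := by
  obtain ⟨i⟩ := isoCo3_G3
  exact noDouble_G3.congr i

/-- No double cover for every group isomorphic to Co3. -/
theorem noDouble_of_iso {G : Type*} [Group G] (h : Cfsg.Spor.IsoCo3 G) : NoDouble G := by
  obtain ⟨i⟩ := h
  exact noDouble.congr i.symm

end Cfsg.Agent.KFacts.MulSpor.CoThree

end
end
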