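import Cfsg.Agent.HN.CoverUnique
import Cfsg.Agent.KFacts.MulBaer
set_option linter.all false

/-!
# The multiplier of the Higman–Sims group: its 2-part is at most 2

`oneCover : OneCover Spor.HS` from the uniqueness of the double cover (`HN/CoverUnique`) and one commutator.
-/

set_option autoImplicit false
set_option linter.style.haveILetI false

namespace Cfsg.Agent.KFacts.MulSpor.HS

open Subgroup Cfsg.Agent.KFacts.MulTwo Cfsg.Agent.KFacts.MulDef Cfsg.Agent.KFacts.MulBound
open Cfsg.Agent.HN.Pres Cfsg.Agent.HN.HS100 Cfsg.Agent.HN.P1408 Cfsg.Agent.HN.H0Basic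
open Cfsg.Agent.HN Cfsg.Agent.HN.CoverUnique Cfsg.Agent.HN.AutHS
open scoped commutatorElement

/-- a perfect group has no subgroup of index 2. -/
theorem index_ne_two {L : Type*} [Group L] (h : commutator L = ⊤) (S : Subgroup L) : S.index ≠ 2 := by
  intro hS
  have : S.Normal := normal_of_index_eq_two hS
  have hle : commutator L ≤ S := by
    rw [commutator_def, commutator_le]
    intro a _ b _
    rw [index_eq_two_iff] at hS
    obtain ⟨c, hc⟩ := hS
    have key : ∀ u v : L, (u * v ∈ S) = ((u ∈ S) ↔ (v ∈ S)) := fun u v =>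
      propext (mul_mem_iff_of_index_two (index_eq_two_iff.2 ⟨c, hc⟩))
    rw [commutatorElement_def, key, key, key, inv_mem_iff, inv_mem_iff]
    tauto
  rw [h, top_le_iff] at hle
  rw [hle, index_top] at hS
  omega

/-- a perfect double cover of `Q` is a `Cov`. -/
theorem cov {L : Type*} [Group L] {π : L →* Q} {c : L} (h : Dbl π c) : Cov c (Q.subtype.comp π) where
  ne := h.ne
  sq := h.sq
  cen := fun g => (h.cen g).symm
  ker := fun g => by
    rw [← h.ker g]
    exact ⟨fun h1 => Subtype.ext h1, fun h1 => congrArg Subtype.val h1⟩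
  range := by
    rw [MonoidHom.range_comp, MonoidHom.range_eq_top.2 h.surj, ← MonoidHom.range_eq_map, Subgroup.range_subtype]
  no2 := index_ne_two h.perf

/-- conjugates `x` into `x⁻¹` -/
def ww : List ℕ := [2, 0, 4, 2, 4, 2, 2, 4, 3, 3, 4, 3, 4, 3, 4, 0, 3]

def xK : K := ⟨gx, gx_mem⟩

def wK : K := ⟨hw ww, mem_K_of_par (by decide +kernel) (by decide +kernel)⟩

theorem comm_eq : ⁅xK, wK⁆ = ⟨τ, τ_mem_K⟩ := by
  apply Subtype.ext
  show gx * hw ww * gx⁻¹ * (hw ww)⁻¹ = τ
  rw [← hw_x, ← hw_iw, ← hw_iw, ← hw_append, ← hw_append, ← hw_append, ← hw_τ]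
  exact hw_eq (by decide +kernel)

/-- the 2-part of the multiplier of `Q` is at most 2. -/
theorem oneCover_Q : OneCover Q where
  uniq := fun L M _ _ _ _ π ρ c d h1 h2 => by
    obtain ⟨e1, he1⟩ := (cov h1).exists_equiv
    obtain ⟨e2, he2⟩ := (cov h2).exists_equiv
    refine ⟨e1.symm.trans e2, fun x => Subtype.ext ?_⟩
    obtain ⟨k, rfl⟩ := e1.surjective x
    rw [MulEquiv.trans_apply, e1.symm_apply_apply]
    exact (he2 k).trans (he1 k).symm
  real := fun L _ _ π c h => by
    obtain ⟨e, he⟩ := (cov h).exists_equiv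
    refine ⟨e xK, e wK, Subtype.ext ?_, ?_⟩
    · rw [← map_mul]
      refine (he (xK * xK)).trans ?_
      show φ (gx * gx) = 1
      rw [← pow_two]
      exact φ_τ
    · rw [← map_commutatorElement, comm_eq]
      rcases (h.ker (e ⟨τ, τ_mem_K⟩)).1 (Subtype.ext ((he ⟨τ, τ_mem_K⟩).trans φ_τ)) with h1 | h1
      · exfalso
        apply τ_ne_one
        exact congrArg Subtype.val ((map_eq_one_iff e e.injective).1 h1)
      · exact h1

/-- **The 2-part of the multiplier of `HS` is at most 2.** -/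
theorem oneCover : OneCover ↥Cfsg.Spor.HS := by
  obtain ⟨⟨e⟩, -⟩ := nonempty_Q
  exact MulBaer.OneCover.congr oneCover_Q e

theorem oneCover_of_equiv {X : Type*} [Group X] (e : X ≃* ↥Cfsg.Spor.HS) : OneCover X :=
  MulBaer.OneCover.congr oneCover e.symm

end Cfsg.Agent.KFacts.MulSpor.HS
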