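import Cfsg.Agent.Th.TabFacts
import Cfsg.Agent.KFacts.Th.Main
import Cfsg.Agent.KFacts.MulDef
import Cfsg.Agent.Th.Main475
import Cfsg.Agent.FastGrp
import Cfsg.Agent.Prune
set_option linter.all false
prune_inst 0x7f00000000000000000000000000000000000000000000000000000000000000000000000000000000000000000000000000000000000000000000000000000000000000000000000000000000000000003fffffffffffffffffffffffffffbeffbdffffffff
open scoped Cfsg.Agent.FastGrp

-- merged: Cfsg.Agent.KFacts.Th.Sign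
section

/-!
# Signs of the relators of `2^{1+8}.A9` in a double cover (helper950)

Letters `δ` in a group `L` with a central involution `z`; the relators of `Th.RelWords.relC` take the values `1` or `z`
on `δ`, the value `1` for all of them except possibly those with the numbers 19, 23, 27, 28; there are
representatives `r p` of the 120 cosets of `B` in `C`, and `B₁` is a complement of `z` in the preimage of `B`. Then all
the relators take the value `1` (`all_one`): certificates for the signs of the edges of the coset table.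
-/

set_option autoImplicit false
set_option maxRecDepth 100000

namespace Cfsg.Agent.KFacts.Th.Sign

open Cfsg.Agent.Th.Word Cfsg.Agent.Th.RelWords Cfsg.Agent.Th.KOracle Cfsg.Agent.Th.COracleDef
  Cfsg.Agent.Th.TabFacts Cfsg.Agent.Th.PermTab

/-! ### a linear form on masks -/

/-- the sum of `s i` over the bits `i < n` of `m` -/
def V (s : ℕ → Bool) : ℕ → ℕ → Bool
  | 0, _ => false
  | n + 1, m => (m.testBit n && s n) ^^ V s n m

theorem V_xor (s : ℕ → Bool) (n m k : ℕ) : V s n (m ^^^ k) = (V s n m ^^ V s n k) := by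
  induction n with
  | zero => rfl
  | succ n ih =>
    show (((m ^^^ k).testBit n && s n) ^^ V s n (m ^^^ k)) = _
    rw [ih, Nat.testBit_xor]
    show _ = (((m.testBit n && s n) ^^ V s n m) ^^ ((k.testBit n && s n) ^^ V s n k))
    generalize V s n m = a
    generalize V s n k = b
    cases m.testBit n <;> cases k.testBit n <;> cases s n <;> cases a <;> cases b <;> rfl

theorem V_zero (s : ℕ → Bool) (n : ℕ) : V s n 0 = false := by
  induction n with
  | zero => rfl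
  | succ n ih =>
    show (((0 : ℕ).testBit n && s n) ^^ V s n 0) = false
    rw [ih, Nat.zero_testBit]; rfl

theorem V_bit (s : ℕ → Bool) {n i : ℕ} (hi : i < n) : V s n (2 ^ i) = s i := by
  induction n with
  | zero => omega
  | succ n ih =>
    show (((2 ^ i).testBit n && s n) ^^ V s n (2 ^ i)) = s i
    by_cases h : i = n
    · subst h
      rw [Nat.testBit_two_pow_self, Bool.true_and]
      have : ∀ m, m ≤ i → V s m (2 ^ i) = false := by
        intro m
        induction m with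
        | zero => intro _; rfl
        | succ m ihm =>
          intro hm
          show (((2 ^ i).testBit m && s m) ^^ V s m (2 ^ i)) = false
          rw [ihm (by omega), Nat.testBit_two_pow_of_ne (by omega)]; rfl
      rw [this i le_rfl, Bool.xor_false]
    · rw [Nat.testBit_two_pow_of_ne h, ih (by omega)]
      simp

/-! ### masks of words -/

/-- number of the edge `(x, p)` -/
def em (x p : ℕ) : ℕ :=
  Bool.rec (Nat.add (Nat.mul 128 x) p) (Nat.add (Nat.mul 128 (Nat.pred x)) (act120 x p))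
    (or (Nat.beq x 7) (or (Nat.beq x 9) (Nat.beq x 11)))

/-- mask of the path of a word from `p` -/
def wm (w : List ℕ) : ℕ → ℕ :=
  List.rec (fun _ => 0) (fun x _ ih p => Nat.xor (Nat.pow 2 (em x p)) (ih (act120 x p))) w

theorem wm_nil (p : ℕ) : wm [] p = 0 := rfl
theorem wm_cons (x : ℕ) (w : List ℕ) (p : ℕ) : wm (x :: w) p = 2 ^ em x p ^^^ wm w (act120 x p) := rfl

/-- the relator with number `i` -/
def rel (i : ℕ) : List ℕ := relC.getD i []

/-- mask of an entry of a certificate: the relator `i` at the point `p`, a generator of `B` at 0, or the sign of a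
relator -/
def msk (n : ℕ) : ℕ :=
  Bool.rec (Bool.rec
      (Nat.xor (wm (rel (Nat.div n 128)) (Nat.mod n 128)) (Nat.pow 2 (Nat.add 1500 (Nat.div n 128))))
      (Nat.pow 2 (Nat.mul 128 (Nat.mod n 128))) (Nat.beq (Nat.div n 128) 30))
    (Nat.pow 2 (Nat.add 1500 (Nat.mod n 128))) (Nat.beq (Nat.div n 128) 31)

/-- validity of an entry; `kn` = numbers of relators known to have sign `1` -/
def ok (kn : ℕ → Bool) (n : ℕ) : Bool :=
  Bool.rec (Bool.rec
      (and (Nat.blt (Nat.div n 128) 29) (and (Nat.blt (Nat.mod n 128) 120)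
        (and (allL isC (rel (Nat.div n 128)))
          (Nat.beq (tr act120 (rel (Nat.div n 128)) (Nat.mod n 128)) (Nat.mod n 128)))))
      (and (isB (Nat.mod n 128)) (and (Nat.beq (act120 (Nat.mod n 128) 0) 0)
        (Bool.not (or (Nat.beq (Nat.mod n 128) 7) (Nat.beq (Nat.mod n 128) 9))))) (Nat.beq (Nat.div n 128) 30))
    (and (Nat.blt (Nat.mod n 128) 29) (kn (Nat.mod n 128))) (Nat.beq (Nat.div n 128) 31)

/-- the sum of the masks -/
def total (l : List ℕ) : ℕ := List.rec 0 (fun n _ ih => Nat.xor (msk n) ih) l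

/-- a certificate for the relator `i` -/
def cert (kn : ℕ → Bool) (l : List ℕ) (i : ℕ) : Bool := and (allG (ok kn) l) (Nat.beq (total l) (Nat.pow 2 (Nat.add 1500 i)))

theorem V_total (s : ℕ → Bool) (l : List ℕ) (h : ∀ n ∈ l, V s 1600 (msk n) = false) :
    V s 1600 (total l) = false := by
  induction l with
  | nil => exact V_zero _ _
  | cons n l ih =>
    show V s 1600 (msk n ^^^ total l) = false
    rw [V_xor, h n List.mem_cons_self, ih fun k hk => h k (List.mem_cons_of_mem _ hk)]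
    rfl

/-- the relators of unknown sign -/
def un0 (j : ℕ) : Bool := Bool.not (or (Nat.beq j 19) (or (Nat.beq j 23) (or (Nat.beq j 27) (Nat.beq j 28))))
def un1 (j : ℕ) : Bool := Bool.not (or (Nat.beq j 23) (or (Nat.beq j 27) (Nat.beq j 28)))

def certDedu : List ℕ := [
  2948]

def certDus : List ℕ := [
  261, 262, 265, 395, 397, 402, 641, 651, 653, 781, 786, 896, 901, 902, 905, 1285, 1286, 1298, 1537, 1542,
  2064, 2072, 2433, 2445, 2816, 3595, 3970, 3971, 3973, 3978, 3990]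

def certU2 : List ℕ := [
  261, 263, 277, 337, 397, 402, 406, 414, 449, 640, 641, 642, 643, 645, 658, 661, 670, 691, 781, 1285, 1291,
  1292, 1298, 1299, 1300, 1301, 1302, 1303, 1310, 1319, 1330, 1331, 2432, 2433, 2434, 2435, 2437, 2450, 2453,
  2462, 2483, 2834, 2846, 2867, 2949, 2951, 3843, 3971, 3973, 3974, 3978, 3990]

def certUs4 : List ℕ := [
  645, 646, 1024, 1025, 1286, 2437, 2438, 2440, 3464, 3978, 3987]

theorem checkDedu : cert un0 certDedu 23 = true := by decide +kernel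
theorem checkDus : cert un0 certDus 28 = true := by decide +kernel
theorem checkU2 : cert un0 certU2 19 = true := by decide +kernel
theorem checkUs4 : cert un1 certUs4 27 = true := by decide +kernel

/-! ### signs in a double cover -/

variable {L : Type*} [Group L]

/-- the data -/
structure Data (δ r : ℕ → L) (z : L) (B B₁ : Subgroup L) : Prop where
  inv : InvCompat δ
  zz : z * z = 1
  cen : ∀ x, z * x = x * z
  zB : z ∈ B
  z1 : z ∉ B₁
  le : B₁ ≤ B
  or_mem : ∀ x ∈ B, x ∈ B₁ ∨ z * x ∈ B₁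
  r0 : r 0 = 1
  step : ∀ p < 120, ∀ x, isC x = true → r p * δ x * (r (act120 x p))⁻¹ ∈ B
  gen : ∀ x, isB x = true → δ x ∈ B₁
  rel : ∀ i < 29, ev δ (rel i) = 1 ∨ ev δ (rel i) = z

namespace Data

variable {δ r : ℕ → L} {z : L} {B B₁ : Subgroup L} (D : Data δ r z B B₁)

open Classical in
/-- the sign -/
noncomputable def chi (B₁ : Subgroup L) (x : L) : Bool := decide (x ∉ B₁)

theorem chi_true {x : L} : chi B₁ x = true ↔ x ∉ B₁ := by simp [chi]

theorem chi_false {x : L} : chi B₁ x = false ↔ x ∈ B₁ := by simp [chi]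

include D

theorem chi_mul {x y : L} (hx : x ∈ B) (hy : y ∈ B) : chi B₁ (x * y) = (chi B₁ x ^^ chi B₁ y) := by
  by_cases h1 : x ∈ B₁ <;> by_cases h2 : y ∈ B₁
  · rw [chi_false.mpr h1, chi_false.mpr h2, chi_false.mpr (B₁.mul_mem h1 h2)]; rfl
  · rw [chi_false.mpr h1, chi_true.mpr h2, chi_true.mpr]
    · rfl
    · intro h3
      apply h2
      have := B₁.mul_mem (B₁.inv_mem h1) h3
      rwa [inv_mul_cancel_left] at this
  · rw [chi_true.mpr h1, chi_false.mpr h2, chi_true.mpr]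
    · rfl
    · intro h3
      apply h1
      have := B₁.mul_mem h3 (B₁.inv_mem h2)
      rwa [mul_inv_cancel_right] at this
  · have h3 := (D.or_mem x hx).resolve_left h1
    have h4 := (D.or_mem y hy).resolve_left h2
    have h5 := B₁.mul_mem h3 h4
    have e : z * x * (z * y) = x * y := by
      calc z * x * (z * y) = z * (x * z) * y := by group
        _ = z * z * x * y := by rw [← D.cen x]; group
        _ = x * y := by rw [D.zz, one_mul]
    rw [e] at h5
    rw [chi_true.mpr h1, chi_true.mpr h2, chi_false.mpr h5]; rfl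

theorem chi_inv {x : L} (hx : x ∈ B) : chi B₁ x⁻¹ = chi B₁ x := by
  have h1 := D.chi_mul hx (B.inv_mem hx)
  rw [mul_inv_cancel, chi_false.mpr B₁.one_mem] at h1
  revert h1
  cases chi B₁ x <;> cases chi B₁ x⁻¹ <;> decide

/-- the signs of the edges and of the relators -/
noncomputable def sgn (δ r : ℕ → L) (B₁ : Subgroup L) (i : ℕ) : Bool :=
  if i < 1500 then chi B₁ (r (i % 128) * δ (i / 128) * (r (act120 (i / 128) (i % 128)))⁻¹)
  else chi B₁ (ev δ (Sign.rel (i - 1500)))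

omit D in
theorem sgn_edge (x p : ℕ) (hx : x < 11) (hp : p < 120) :
    sgn δ r B₁ (128 * x + p) = chi B₁ (r p * δ x * (r (act120 x p))⁻¹) := by
  unfold sgn
  rw [if_pos (by omega)]
  have e1 : (128 * x + p) % 128 = p := by omega
  have e2 : (128 * x + p) / 128 = x := by omega
  rw [e1, e2]

theorem sgn_em {x p : ℕ} (hx : isC x = true) (hp : p < 120) :
    sgn δ r B₁ (em x p) = chi B₁ (r p * δ x * (r (act120 x p))⁻¹) ∧ em x p < 1500 := by
  have hlt : act120 x p < 120 := isTab120.lt x hx p hp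
  by_cases h : x = 7 ∨ x = 9 ∨ x = 11
  · have e : em x p = 128 * (x - 1) + act120 x p := by
      unfold em
      have : (or (Nat.beq x 7) (or (Nat.beq x 9) (Nat.beq x 11))) = true := by
        rcases h with rfl | rfl | rfl <;> rfl
      rw [this]; rfl
    rw [e]
    have hx' : invL x = x - 1 := by rcases h with rfl | rfl | rfl <;> rfl
    have h1 := isTab120.inv x hx p hp
    rw [hx'] at h1
    refine ⟨?_, by omega⟩
    rw [sgn_edge _ _ (by omega) hlt, h1]
    have h2 : δ (x - 1) = (δ x)⁻¹ := by rw [← hx']; exact D.inv x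
    rw [h2]
    have h3 : r (act120 x p) * (δ x)⁻¹ * (r p)⁻¹ = (r p * δ x * (r (act120 x p))⁻¹)⁻¹ := by group
    rw [h3]
    exact D.chi_inv (D.step p hp x hx)
  · have e : em x p = 128 * x + p := by
      unfold em
      have : (or (Nat.beq x 7) (or (Nat.beq x 9) (Nat.beq x 11))) = false := by
        rw [Bool.eq_false_iff]
        intro hh
        rw [Bool.or_eq_true, Bool.or_eq_true, Nat.beq_eq, Nat.beq_eq, Nat.beq_eq] at hh
        exact h hh
      rw [this]; rfl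
    rw [isC_iff] at hx
    rw [e]
    refine ⟨sgn_edge _ _ (by omega) hp, by omega⟩

/-- the sign of a path -/
theorem path (w : List ℕ) : ∀ p < 120, (∀ x ∈ w, isC x = true) →
    r p * ev δ w * (r (tr act120 w p))⁻¹ ∈ B ∧
      chi B₁ (r p * ev δ w * (r (tr act120 w p))⁻¹) = V (sgn δ r B₁) 1600 (wm w p) := by
  induction w with
  | nil =>
    intro p _ _
    rw [ev_nil, mul_one, tr_nil, mul_inv_cancel, wm_nil, V_zero]
    exact ⟨B.one_mem, chi_false.mpr B₁.one_mem⟩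
  | cons x w ih =>
    intro p hp hw
    have hx := hw x List.mem_cons_self
    obtain ⟨h1, h2⟩ := ih (act120 x p) (isTab120.lt x hx p hp) fun y hy => hw y (List.mem_cons_of_mem _ hy)
    have h3 := D.step p hp x hx
    obtain ⟨h4, h5⟩ := D.sgn_em hx hp
    have e : r p * ev δ (x :: w) * (r (tr act120 (x :: w) p))⁻¹ =
        r p * δ x * (r (act120 x p))⁻¹ * (r (act120 x p) * ev δ w * (r (tr act120 w (act120 x p)))⁻¹) := by
      rw [ev_cons, tr_cons]; group
    rw [e, wm_cons, V_xor, V_bit _ (by omega : em x p < 1600), h4, ← h2]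
    exact ⟨B.mul_mem h3 h1, D.chi_mul h3 h1⟩

theorem sgn_rel (i : ℕ) : sgn δ r B₁ (1500 + i) = chi B₁ (ev δ (Sign.rel i)) := by
  unfold sgn
  rw [if_neg (by omega)]
  have : 1500 + i - 1500 = i := by omega
  rw [this]

/-- the entries of a certificate have sum zero -/
theorem entry {kn : ℕ → Bool} (hkn : ∀ j < 29, kn j = true → ev δ (Sign.rel j) = 1) {n : ℕ} (hn : ok kn n = true) :
    V (sgn δ r B₁) 1600 (msk n) = false := by
  unfold msk
  unfold ok at hn
  cases h31 : Nat.beq (Nat.div n 128) 31 with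
  | true =>
    rw [h31] at hn
    have hn : and (Nat.blt (Nat.mod n 128) 29) (kn (Nat.mod n 128)) = true := hn
    rw [Bool.and_eq_true] at hn
    have hlt : Nat.mod n 128 < 29 := Nat.blt_eq.mp hn.1
    show V (sgn δ r B₁) 1600 (2 ^ (1500 + Nat.mod n 128)) = false
    rw [V_bit _ (by omega), D.sgn_rel, hkn _ hlt hn.2]
    exact chi_false.mpr B₁.one_mem
  | false =>
    rw [h31] at hn
    cases h30 : Nat.beq (Nat.div n 128) 30 with
    | true =>
      rw [h30] at hn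
      have hn : and (isB (Nat.mod n 128)) (and (Nat.beq (act120 (Nat.mod n 128) 0) 0)
        (Bool.not (or (Nat.beq (Nat.mod n 128) 7) (Nat.beq (Nat.mod n 128) 9)))) = true := hn
      rw [Bool.and_eq_true, Bool.and_eq_true] at hn
      have hB := hn.1
      have h0 := Nat.eq_of_beq_eq_true hn.2.1
      have hB2 := (isB_iff _).mp hB
      show V (sgn δ r B₁) 1600 (2 ^ (128 * Nat.mod n 128)) = false
      rw [V_bit _ (by omega), show 128 * Nat.mod n 128 = 128 * Nat.mod n 128 + 0 from rfl,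
        sgn_edge _ _ (by omega) (by omega), h0, D.r0, one_mul, inv_one, mul_one]
      exact chi_false.mpr (D.gen _ hB)
    | false =>
      rw [h30] at hn
      have hn : and (Nat.blt (Nat.div n 128) 29) (and (Nat.blt (Nat.mod n 128) 120)
        (and (allL isC (Sign.rel (Nat.div n 128)))
          (Nat.beq (tr act120 (Sign.rel (Nat.div n 128)) (Nat.mod n 128)) (Nat.mod n 128)))) = true := hn
      rw [Bool.and_eq_true, Bool.and_eq_true, Bool.and_eq_true] at hn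
      obtain ⟨a1, a2, a3, a4⟩ := hn
      have a1 := Nat.blt_eq.mp a1
      have a2 := Nat.blt_eq.mp a2
      have a3 := (allL_iff _ _).mp a3
      have a4 := Nat.eq_of_beq_eq_true a4
      show V (sgn δ r B₁) 1600 (wm (Sign.rel (Nat.div n 128)) (Nat.mod n 128) ^^^ 2 ^ (1500 + Nat.div n 128)) = false
      rw [V_xor, V_bit _ (by omega), D.sgn_rel, ← (D.path _ _ a2 a3).2, a4]
      rcases D.rel _ a1 with h | h
      · rw [h, mul_one, mul_inv_cancel]
        exact Bool.xor_self _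
      · have e : r (Nat.mod n 128) * z * (r (Nat.mod n 128))⁻¹ = z := by
          rw [← D.cen]; group
        rw [h, e]
        exact Bool.xor_self _

theorem of_cert {kn : ℕ → Bool} (hkn : ∀ j < 29, kn j = true → ev δ (Sign.rel j) = 1) {l : List ℕ} {i : ℕ}
    (hi : i < 29) (hc : cert kn l i = true) : ev δ (Sign.rel i) = 1 := by
  unfold cert at hc
  rw [Bool.and_eq_true] at hc
  have h1 := V_total (sgn δ r B₁) l fun n hn => D.entry hkn ((allG_iff _ _).mp hc.1 n hn)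
  rw [Nat.eq_of_beq_eq_true hc.2] at h1
  have h2 : V (sgn δ r B₁) 1600 (2 ^ (1500 + i)) = false := h1
  rw [V_bit _ (by omega), D.sgn_rel, chi_false] at h2
  rcases D.rel i hi with h | h
  · exact h
  · rw [h] at h2
    exact (D.z1 h2).elim

/-- **all relators take the value 1** -/
theorem all_one (h : ∀ j < 29, un0 j = true → ev δ (Sign.rel j) = 1) : ∀ i < 29, ev δ (Sign.rel i) = 1 := by
  have h23 := D.of_cert h (by norm_num) checkDedu
  have h28 := D.of_cert h (by norm_num) checkDus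
  have h19 := D.of_cert h (by norm_num) checkU2
  have h' : ∀ j < 29, un1 j = true → ev δ (Sign.rel j) = 1 := by
    intro j hj hj1
    by_cases e : j = 19
    · rw [e]; exact h19
    · apply h j hj
      revert hj1 e
      revert j
      decide
  have h27 := D.of_cert h' (by norm_num) checkUs4
  intro i hi
  by_cases h0 : un0 i = true
  · exact h i hi h0
  · have : i = 19 ∨ i = 23 ∨ i = 27 ∨ i = 28 := by
      revert h0
      revert i
      decide
    rcases this with rfl | rfl | rfl | rfl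
    · exact h19
    · exact h23
    · exact h27
    · exact h28

end Data

end Cfsg.Agent.KFacts.Th.Sign

end

-- merged: Cfsg.Agent.KFacts.Th.Lift
section

/-!
# No double cover of the Thompson group (helper950)

In a central extension `π : L → G` by `{1, z}` the letters `a, c, d, e, s, t, u` have lifts satisfying the relations of
`C = 2^{1+8}.A9` (`exists_lift`); so `C` has a complement in its preimage, and `L` is not perfect (`false`).
-/

set_option autoImplicit false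
set_option maxRecDepth 100000

namespace Cfsg.Agent.KFacts.Th.Lift

open Cfsg.Agent.Th.Base Cfsg.Agent.Th.Word Cfsg.Agent.Th.RelWords Cfsg.Agent.Th.PermTab
  Cfsg.Agent.Th.KOracle Cfsg.Agent.Th.KPerm Cfsg.Agent.Th.NineAct Cfsg.Agent.Th.CStruct
  Cfsg.Agent.Th.COracleDef Cfsg.Agent.Th.TabFacts
open Cfsg.Agent.KFacts.Th.Mask Cfsg.Agent.KFacts.Th.Struct
open scoped commutatorElement

universe u v

variable {G : Type u} [Group G] {L : Type v} [Group L]

/-- a central extension by a group of order 2 -/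
structure Cov (π : L →* G) (z : L) : Prop where
  surj : Function.Surjective π
  ker : ∀ x, π x = 1 ↔ x = 1 ∨ x = z
  ne : z ≠ 1
  sq : z * z = 1
  cen : ∀ x, z * x = x * z

namespace Cov

variable {π : L →* G} {z : L} (c : Cov π z)
include c

theorem zinv : z⁻¹ = z := inv_eq_of_mul_eq_one_left c.sq

theorem of_eq {x y : L} (h : π x = π y) : x = y ∨ x = z * y := by
  have h1 : π (x * y⁻¹) = 1 := by rw [map_mul, map_inv, h, mul_inv_cancel]
  rcases (c.ker _).mp h1 with h2 | h2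
  · left; exact mul_inv_eq_one.mp h2
  · right; exact mul_inv_eq_iff_eq_mul.mp h2

theorem sq_mul (x : L) : (z * x) * (z * x) = x * x := by
  calc (z * x) * (z * x) = z * (x * z) * x := by group
    _ = z * z * (x * x) := by rw [← c.cen x]; group
    _ = x * x := by rw [c.sq, one_mul]

theorem pow_mul (x : L) (n : ℕ) : (z * x) ^ n = z ^ n * x ^ n := by
  have : Commute z x := c.cen x
  exact this.mul_pow n

theorem z_pow_odd {n : ℕ} (hn : n % 2 = 1) : z ^ n = z := by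
  obtain ⟨k, rfl⟩ : ∃ k, n = 2 * k + 1 := ⟨n / 2, by omega⟩
  rw [pow_succ, _root_.pow_mul, pow_two, c.sq, one_pow, one_mul]

/-- lifts of elements of odd order -/
theorem exists_pow {x : G} {n : ℕ} (hn : n % 2 = 1) (hx : x ^ n = 1) : ∃ y, π y = x ∧ y ^ n = 1 := by
  obtain ⟨y, hy⟩ := c.surj x
  rcases (c.ker (y ^ n)).mp (by rw [map_pow, hy, hx]) with h | h
  · exact ⟨y, hy, h⟩
  · refine ⟨z * y, ?_, ?_⟩
    · rw [map_mul, (c.ker z).mpr (Or.inr rfl), one_mul, hy]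
    · rw [c.pow_mul, c.z_pow_odd hn, h, c.sq]

theorem pow_unique {x y : L} {n : ℕ} (hn : n % 2 = 1) (hx : x ^ n = 1) (hy : y ^ n = 1) (h : π x = π y) : x = y := by
  rcases c.of_eq h with h1 | h1
  · exact h1
  · exfalso
    rw [h1, c.pow_mul, c.z_pow_odd hn, hy, mul_one] at hx
    exact c.ne hx

end Cov

/-- lifts of elements commuting with `x` commute with the lifts of `x` -/
def Good (π : L →* G) (x : G) : Prop := ∀ y g : L, π y = x → π g * x = x * π g → g * y = y * g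

/-- lifts of `x` have square 1 -/
def Sq (π : L →* G) (x : G) : Prop := ∀ y : L, π y = x → y * y = 1

section

variable {π : L →* G} {z : L} (c : Cov π z)
include c

omit c in
theorem Good.conj (hπ : Function.Surjective π) {x : G} (h : Good π x) (y : G) : Good π (y * x * y⁻¹) := by
  obtain ⟨w, rfl⟩ := hπ y
  intro v g hv hg
  have h1 := h (w⁻¹ * v * w) (w⁻¹ * g * w) (by
    rw [map_mul, map_mul, map_inv, hv]; group) (by
    rw [map_mul, map_mul, map_inv]
    calc (π w)⁻¹ * π g * π w * x = (π w)⁻¹ * (π g * (π w * x * (π w)⁻¹)) * π w := by group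
      _ = (π w)⁻¹ * (π w * x * (π w)⁻¹ * π g) * π w := by rw [hg]
      _ = x * ((π w)⁻¹ * π g * π w) := by group)
  calc g * v = w * (w⁻¹ * g * w * (w⁻¹ * v * w)) * w⁻¹ := by group
    _ = w * (w⁻¹ * v * w * (w⁻¹ * g * w)) * w⁻¹ := by rw [h1]
    _ = v * g := by group

omit c in
theorem Sq.conj (hπ : Function.Surjective π) {x : G} (h : Sq π x) (y : G) : Sq π (y * x * y⁻¹) := by
  obtain ⟨w, rfl⟩ := hπ y
  intro v hv
  have h1 := h (w⁻¹ * v * w) (by rw [map_mul, map_mul, map_inv, hv]; group)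
  calc v * v = w * (w⁻¹ * v * w * (w⁻¹ * v * w)) * w⁻¹ := by group
    _ = 1 := by rw [h1]; group

/-- **the centraliser of `x` is perfect** -/
theorem good_of_perfect {x : G} {C : Subgroup G} (hC : ⁅C, C⁆ = C) (hx : ∀ g, g ∈ C ↔ g * x = x * g) : Good π x := by
  intro y g hy hg
  have hcomm : ∀ w : L, π w ∈ C → ∃ e : L, (∀ v, e * v = v * e) ∧ e * e = 1 ∧ w * y * w⁻¹ = e * y := by
    intro w hw
    have h1 : π (w * y * w⁻¹) = π y := by
      rw [map_mul, map_mul, map_inv, hy, (hx _).mp hw]; group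
    rcases c.of_eq h1 with h2 | h2
    · exact ⟨1, by simp, by simp, by rw [one_mul]; exact h2⟩
    · exact ⟨z, c.cen, c.sq, h2⟩
  have hle : ⁅C, C⁆ ≤ (Subgroup.centralizer ({y} : Set L)).map π := by
    rw [Subgroup.commutator_le]
    intro g1 h1 g2 h2
    obtain ⟨w1, rfl⟩ := c.surj g1
    obtain ⟨w2, rfl⟩ := c.surj g2
    obtain ⟨e1, c1, s1, k1⟩ := hcomm w1 h1
    obtain ⟨e2, c2, s2, k2⟩ := hcomm w2 h2
    refine ⟨⁅w1, w2⁆, ?_, map_commutatorElement _ _ _⟩
    have j1 : w1⁻¹ * y * w1 = e1 * y := by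
      have : y = w1⁻¹ * (w1 * y * w1⁻¹) * w1 := by group
      rw [k1] at this
      calc w1⁻¹ * y * w1 = e1 * e1 * (w1⁻¹ * y * w1) := by rw [s1, one_mul]
        _ = e1 * (e1 * w1⁻¹) * y * w1 := by group
        _ = e1 * (w1⁻¹ * (e1 * y) * w1) := by rw [c1 w1⁻¹]; group
        _ = e1 * y := by rw [← this]
    have j2 : w2⁻¹ * y * w2 = e2 * y := by
      have : y = w2⁻¹ * (w2 * y * w2⁻¹) * w2 := by group
      rw [k2] at this
      calc w2⁻¹ * y * w2 = e2 * e2 * (w2⁻¹ * y * w2) := by rw [s2, one_mul]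
        _ = e2 * (e2 * w2⁻¹) * y * w2 := by group
        _ = e2 * (w2⁻¹ * (e2 * y) * w2) := by rw [c2 w2⁻¹]; group
        _ = e2 * y := by rw [← this]
    rw [SetLike.mem_coe, Subgroup.mem_centralizer_singleton_iff]
    have key : ⁅w1, w2⁆ * y * ⁅w1, w2⁆⁻¹ = y := by
      rw [commutatorElement_def]
      calc w1 * w2 * w1⁻¹ * w2⁻¹ * y * (w1 * w2 * w1⁻¹ * w2⁻¹)⁻¹
          = w1 * (w2 * (w1⁻¹ * (w2⁻¹ * y * w2) * w1) * w2⁻¹) * w1⁻¹ := by group
        _ = w1 * (w2 * (w1⁻¹ * e2 * y * w1) * w2⁻¹) * w1⁻¹ := by rw [j2]; group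
        _ = w1 * (w2 * (e2 * (w1⁻¹ * y * w1)) * w2⁻¹) * w1⁻¹ := by rw [← c2 w1⁻¹]; group
        _ = w1 * (w2 * e2 * e1 * y * w2⁻¹) * w1⁻¹ := by rw [j1]; group
        _ = w1 * (e2 * (w2 * e1) * y * w2⁻¹) * w1⁻¹ := by rw [← c2 w2]; group
        _ = w1 * (e2 * e1 * (w2 * y * w2⁻¹)) * w1⁻¹ := by rw [← c1 w2]; group
        _ = w1 * (e2 * (e1 * e2) * y) * w1⁻¹ := by rw [k2]; group
        _ = w1 * (e2 * e2 * e1 * y) * w1⁻¹ := by rw [c1 e2]; group
        _ = (w1 * e1) * y * w1⁻¹ := by rw [s2]; group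
        _ = e1 * (w1 * y * w1⁻¹) := by rw [← c1 w1]; group
        _ = e1 * e1 * y := by rw [k1]; group
        _ = y := by rw [s1, one_mul]
    rwa [mul_inv_eq_iff_eq_mul] at key
  have h1 : π g ∈ ⁅C, C⁆ := by rw [hC]; exact (hx _).mpr hg
  obtain ⟨w, hw, hwg⟩ := hle h1
  have hw : w * y = y * w := Subgroup.mem_centralizer_singleton_iff.mp hw
  rcases c.of_eq hwg.symm with h2 | h2
  · rw [h2]; exact hw
  · rw [h2]
    calc z * w * y = z * (w * y) := by group
      _ = z * (y * w) := by rw [hw]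
      _ = (z * y) * w := by group
      _ = y * (z * w) := by rw [c.cen y]; group

end

section

variable {γ : ℕ → G} (h : Ctx γ) {π : L →* G} {z : L} (c : Cov π z)
include h c

theorem good_a : Good π (γ 1) := good_of_perfect c h.perfect fun _ => h.mem_C

theorem sq_a : Sq π (γ 1) := by
  intro x hx
  obtain ⟨C0, hC0⟩ := c.surj (cc γ 0)
  obtain ⟨D0, hD0⟩ := c.surj (γ 4)
  have h5 := h.cc_conj' (x := 4) (by simp) 0 1 (by decide +kernel)
  set C1 : L := D0⁻¹ * C0 * D0 with hC1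
  have hC1' : π C1 = cc γ 1 := by rw [hC1, map_mul, map_mul, map_inv, hC0, hD0, h5]
  set A : L := C0⁻¹ * C1 * C0 * C1⁻¹ with hA
  have e0 : (cc γ 0)⁻¹ = cc γ 0 := inv_eq_of_mul_eq_one_left (h.data.cc 0)
  have e1 : (cc γ 1)⁻¹ = cc γ 1 := inv_eq_of_mul_eq_one_left (h.data.cc 1)
  have hA' : π A = γ 1 := by
    rw [hA, map_mul, map_mul, map_mul, map_inv, map_inv, hC0, hC1', e0, e1, h.data.com 0 1 (by decide)]
    calc γ 1 * (cc γ 1 * cc γ 0) * cc γ 0 * cc γ 1 = γ 1 * cc γ 1 * (cc γ 0 * cc γ 0) * cc γ 1 := by group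
      _ = γ 1 * (cc γ 1 * cc γ 1) := by rw [h.data.cc 0]; group
      _ = γ 1 := by rw [h.data.cc 1, mul_one]
  have hcom : C1 * A = A * C1 := good_a h c A C1 hA' (by rw [hC1', h.data.ac 1])
  have hAA : A * A = 1 := by
    have hs : (C1 * C1 = 1 ∨ C1 * C1 = z) := (c.ker _).mp (by rw [map_mul, hC1', h.data.cc 1])
    have hcen : ∀ v, C1 * C1 * v = v * (C1 * C1) := by
      intro v
      rcases hs with hs | hs
      · rw [hs]; simp
      · rw [hs]; exact c.cen v
    have k1 : A * C1 = C0⁻¹ * C1 * C0 := by rw [hA]; group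
    have k2 : A * C1 * (A * C1) = C1 * C1 := by
      calc A * C1 * (A * C1) = C0⁻¹ * (C1 * C1 * C0) := by rw [k1]; group
        _ = C1 * C1 := by rw [hcen C0]; group
    have k3 : A * A * (C1 * C1) = C1 * C1 := by
      calc A * A * (C1 * C1) = A * (A * C1) * C1 := by group
        _ = A * (C1 * A) * C1 := by rw [hcom]
        _ = A * C1 * (A * C1) := by group
        _ = C1 * C1 := k2
    exact mul_eq_right.mp k3
  rcases c.of_eq (hx.trans hA'.symm) with h1 | h1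
  · rw [h1]; exact hAA
  · rw [h1, c.sq_mul]; exact hAA

theorem good_sq : (Good π (γ 3) ∧ Sq π (γ 3)) ∧ (Good π (γ 4) ∧ Sq π (γ 4)) ∧ (Good π (γ 5) ∧ Sq π (γ 5)) := by
  have ga := good_a h c
  have sa := sq_a h c
  have h4 : Good π (γ 4) ∧ Sq π (γ 4) := by
    have e := Fuse.k_a h
    exact ⟨by rw [← e]; exact ga.conj c.surj _, by rw [← e]; exact sa.conj c.surj _⟩
  refine ⟨?_, h4, ?_⟩
  · have e := Fuse.n_a h
    exact ⟨by rw [← e]; exact ga.conj c.surj _, by rw [← e]; exact sa.conj c.surj _⟩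
  · have d2 : γ 4 * γ 4 = 1 := by rw [← pow_two]; exact h.K.d2
    have e2 : γ 5 * γ 5 = 1 := by rw [← pow_two]; exact h.K.e2
    have d3 := h.K.de3
    have di : (γ 4)⁻¹ = γ 4 := inv_eq_of_mul_eq_one_left d2
    have ei : (γ 5)⁻¹ = γ 5 := inv_eq_of_mul_eq_one_left e2
    have e : (γ 5 * γ 4)⁻¹ * γ 4 * (γ 5 * γ 4)⁻¹⁻¹ = γ 5 := by
      have h1 : (γ 5 * γ 4)⁻¹ * γ 4 * (γ 5 * γ 4)⁻¹⁻¹ * γ 5 = 1 := by
        rw [inv_inv, mul_inv_rev, di, ei, ← d3]
        simp only [pow_succ, pow_zero, one_mul, mul_assoc]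
      rw [eq_inv_of_mul_eq_one_left h1, ei]
    exact ⟨by rw [← e]; exact h4.1.conj c.surj _, by rw [← e]; exact h4.2.conj c.surj _⟩

end

/-! ### twisting lifts by signs -/

/-- `δ` is a system of lifts of the letters of `C` -/
structure Lifts (π : L →* G) (γ : ℕ → G) (δ : ℕ → L) : Prop where
  inv : InvCompat δ
  map : ∀ x, isC x = true → π (δ x) = γ x

/-- twist by a set of letters -/
def tw (z : L) (τ : ℕ → Bool) (δ : ℕ → L) (x : ℕ) : L := if τ x = true then z * δ x else δ x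

/-- parity of a word -/
def cnt (τ : ℕ → Bool) (w : List ℕ) : Bool := List.rec false (fun x _ ih => xor (τ x) ih) w

theorem cnt_cons (τ : ℕ → Bool) (x : ℕ) (w : List ℕ) : cnt τ (x :: w) = xor (τ x) (cnt τ w) := rfl

theorem Lifts.ev {π : L →* G} {γ : ℕ → G} {δ : ℕ → L} (D : Lifts π γ δ) {w : List ℕ} (hw : ∀ x ∈ w, isC x = true) :
    π (ev δ w) = ev γ w := by
  induction w with
  | nil => simp
  | cons x w ih =>
    rw [ev_cons, ev_cons, map_mul, D.map x (hw x List.mem_cons_self), ih fun y hy => hw y (List.mem_cons_of_mem _ hy)]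

section

variable {γ : ℕ → G} {π : L →* G} {z : L} (c : Cov π z)
include c

theorem ev_tw (τ : ℕ → Bool) (δ : ℕ → L) (w : List ℕ) :
    ev (tw z τ δ) w = if cnt τ w = true then z * ev δ w else ev δ w := by
  induction w with
  | nil => rfl
  | cons x w ih =>
    rw [ev_cons, ih, ev_cons, cnt_cons]
    unfold tw
    cases τ x <;> cases cnt τ w
    · simp
    · simp only [Bool.false_eq_true, if_false, if_true, Bool.false_xor]
      rw [← mul_assoc, ← c.cen (δ x), mul_assoc]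
    · simp only [Bool.false_eq_true, if_false, if_true, Bool.xor_false]
      rw [mul_assoc]
    · simp only [if_true, Bool.xor_self, Bool.false_eq_true, if_false]
      calc z * δ x * (z * ev δ w) = z * (δ x * z) * ev δ w := by group
        _ = z * z * δ x * ev δ w := by rw [← c.cen (δ x)]; group
        _ = δ x * ev δ w := by rw [c.sq, one_mul]

theorem Lifts.tw {δ : ℕ → L} (D : Lifts π γ δ) {τ : ℕ → Bool} (hτ : ∀ x, τ (invL x) = τ x) :
    Lifts π γ (tw z τ δ) := by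
  refine ⟨fun x => ?_, fun x hx => ?_⟩
  · unfold Lift.tw
    rw [hτ x, D.inv x]
    split_ifs
    · rw [mul_inv_rev, c.zinv, c.cen]
    · rfl
  · unfold Lift.tw
    split_ifs
    · rw [map_mul, (c.ker z).mpr (Or.inr rfl), one_mul]
      exact D.map x hx
    · exact D.map x hx

/-- adjusting the value of a word -/
theorem Lifts.adjust {δ : ℕ → L} (D : Lifts π γ δ) {τ : ℕ → Bool} (hτ : ∀ x, τ (invL x) = τ x) {w : List ℕ}
    (hw : ∀ x ∈ w, isC x = true) (hw1 : Cfsg.Agent.Th.Word.ev γ w = 1) (hodd : cnt τ w = true) :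
    ∃ δ' : ℕ → L, Lifts π γ δ' ∧ Cfsg.Agent.Th.Word.ev δ' w = 1 ∧
      ∀ v : List ℕ, cnt τ v = false → Cfsg.Agent.Th.Word.ev δ v = 1 → Cfsg.Agent.Th.Word.ev δ' v = 1 := by
  rcases (c.ker _).mp (by rw [D.ev hw, hw1]) with h1 | h1
  · exact ⟨δ, D, h1, fun v _ h => h⟩
  · refine ⟨_, D.tw c hτ, ?_, fun v hv h => ?_⟩
    · rw [ev_tw c, hodd, if_pos rfl, h1, c.sq]
    · rw [ev_tw c, hv, h]; rfl

end

/-- the relation `(cdes)^9 = 1` -/
def w9 : List ℕ := [3,4,5,6,3,4,5,6,3,4,5,6,3,4,5,6,3,4,5,6,3,4,5,6,3,4,5,6,3,4,5,6,3,4,5,6]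

theorem w9_check : korc w9 = true := by decide +kernel

def τ1 (x : ℕ) : Bool := Nat.beq x 1
def τ3 (x : ℕ) : Bool := Nat.beq x 3
def τ4 (x : ℕ) : Bool := Nat.beq x 4
def τ5 (x : ℕ) : Bool := Nat.beq x 5
def τu (x : ℕ) : Bool := or (Nat.beq x 10) (Nat.beq x 11)

theorem τ_inv : (∀ x, τ1 (invL x) = τ1 x) ∧ (∀ x, τ3 (invL x) = τ3 x) ∧ (∀ x, τ4 (invL x) = τ4 x) ∧
    (∀ x, τ5 (invL x) = τ5 x) ∧ (∀ x, τu (invL x) = τu x) := by
  have key : ∀ (f : ℕ → Bool), (∀ x < 12, f (invL x) = f x) → ∀ x, f (invL x) = f x := by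
    intro f hf x
    by_cases hx : x < 12
    · exact hf x hx
    · have : invL x = x := by
        unfold invL
        simp only [cond_eq_ite, Nat.beq_eq]
        split_ifs <;> omega
      rw [this]
  exact ⟨key _ (by decide), key _ (by decide), key _ (by decide), key _ (by decide), key _ (by decide)⟩

section

variable {γ : ℕ → G} (h : Ctx γ) {π : L →* G} {z : L} (c : Cov π z)
include h c

/-- lifts with the relations `s7, t3, es, de3, (cdes)^9, acd, us3` -/
theorem exists_lifts : ∃ δ : ℕ → L, Lifts π γ δ ∧ ev δ (Sign.rel 8) = 1 ∧ ev δ (Sign.rel 13) = 1 ∧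
    ev δ (Sign.rel 12) = 1 ∧ ev δ (Sign.rel 7) = 1 ∧ ev δ w9 = 1 ∧ ev δ (Sign.rel 5) = 1 ∧
    ev δ (Sign.rel 26) = 1 := by
  obtain ⟨⟨-, s3⟩, ⟨-, s4⟩, ⟨-, s5⟩⟩ := good_sq h c
  have s1 := sq_a h c
  obtain ⟨a, ha⟩ := c.surj (γ 1)
  obtain ⟨c', hc'⟩ := c.surj (γ 3)
  obtain ⟨d, hd⟩ := c.surj (γ 4)
  obtain ⟨e, he⟩ := c.surj (γ 5)
  obtain ⟨u, hu⟩ := c.surj (γ 10)
  obtain ⟨s, hs, hs7⟩ := c.exists_pow (x := γ 6) (n := 7) (by norm_num) h.K.s7
  obtain ⟨t, ht, ht3⟩ := c.exists_pow (x := γ 8) (n := 3) (by norm_num) h.K.t3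
  have i7 : γ 7 = (γ 6)⁻¹ := h.inv 6
  have i9 : γ 9 = (γ 8)⁻¹ := h.inv 8
  have i11 : γ 11 = (γ 10)⁻¹ := h.inv 10
  let δ : ℕ → L := gam a 1 c' d e s t u
  have D : Lifts π γ δ := by
    refine ⟨invCompat_gam (by rw [pow_two]; exact s1 a ha) (by simp) (by rw [pow_two]; exact s3 c' hc')
      (by rw [pow_two]; exact s4 d hd) (by rw [pow_two]; exact s5 e he), fun x hx => ?_⟩
    have hm := isC_mem hx
    simp only [List.mem_cons, List.not_mem_nil, or_false] at hm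
    rcases hm with rfl | rfl | rfl | rfl | rfl | rfl | rfl | rfl | rfl | rfl
    · exact ha
    · exact hc'
    · exact hd
    · exact he
    · exact hs
    · show π s⁻¹ = _; rw [map_inv, hs, i7]
    · exact ht
    · show π t⁻¹ = _; rw [map_inv, ht, i9]
    · exact hu
    · show π u⁻¹ = _; rw [map_inv, hu, i11]
  have hr := words_of_relC h.inv h.C
  have hrel : ∀ i < 29, Sign.rel i ∈ relC := by decide
  have hC : ∀ i < 29, ∀ x ∈ Sign.rel i, isC x = true := by decide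
  have h8 : ev δ (Sign.rel 8) = 1 := by
    show s * (s * (s * (s * (s * (s * (s * 1)))))) = 1
    calc s * (s * (s * (s * (s * (s * (s * 1)))))) = s ^ 7 := by
          simp only [pow_succ, pow_zero, one_mul, mul_assoc, mul_one]
      _ = 1 := hs7
  have h13 : ev δ (Sign.rel 13) = 1 := by
    show t * (t * (t * 1)) = 1
    calc t * (t * (t * 1)) = t ^ 3 := by simp only [pow_succ, pow_zero, one_mul, mul_assoc, mul_one]
      _ = 1 := ht3
  obtain ⟨τi1, τi3, τi4, τi5, τiu⟩ := τ_inv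
  -- es
  obtain ⟨δ1, D1, e1, p1⟩ := D.adjust c τi5 (hC 12 (by norm_num)) (hr _ (hrel 12 (by norm_num))) (by decide)
  -- de3
  obtain ⟨δ2, D2, e2, p2⟩ := D1.adjust c τi4 (hC 7 (by norm_num)) (hr _ (hrel 7 (by norm_num))) (by decide)
  -- (cdes)^9
  obtain ⟨δ3, D3, e3, p3⟩ := D2.adjust c τi3 (w := w9) (by decide) (Fuse.korc1 h w9_check) (by decide)
  -- acd
  obtain ⟨δ4, D4, e4, p4⟩ := D3.adjust c τi1 (hC 5 (by norm_num)) (hr _ (hrel 5 (by norm_num))) (by decide)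
  -- us3
  obtain ⟨δ5, D5, e5, p5⟩ := D4.adjust c τiu (hC 26 (by norm_num)) (hr _ (hrel 26 (by norm_num))) (by decide)
  refine ⟨δ5, D5, ?_, ?_, ?_, ?_, ?_, ?_, e5⟩
  · exact p5 _ (by decide) (p4 _ (by decide) (p3 _ (by decide) (p2 _ (by decide) (p1 _ (by decide) h8))))
  · exact p5 _ (by decide) (p4 _ (by decide) (p3 _ (by decide) (p2 _ (by decide) (p1 _ (by decide) h13))))
  · exact p5 _ (by decide) (p4 _ (by decide) (p3 _ (by decide) (p2 _ (by decide) e1)))
  · exact p5 _ (by decide) (p4 _ (by decide) (p3 _ (by decide) e2))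
  · exact p5 _ (by decide) (p4 _ (by decide) e3)
  · exact p5 _ (by decide) e4

omit h c in
theorem comm4 {x y : L} (hxy : x * y = y * x) (hy : y * y = 1) : x⁻¹ * (y * (x * (y * 1))) = 1 := by
  rw [mul_one, hxy, ← mul_assoc y y, hy, one_mul, inv_mul_cancel]

omit h c in
theorem comm4' {x y : L} (hxy : x * y = y * x) (hx : x * x = 1) (hy : y * y = 1) :
    x * (y * (x * (y * 1))) = 1 := by
  rw [mul_one, hxy, ← mul_assoc y y, hy, one_mul, hx]

/-- **all relators but four** -/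
theorem most {δ : ℕ → L} (D : Lifts π γ δ) (h8 : ev δ (Sign.rel 8) = 1) (h13 : ev δ (Sign.rel 13) = 1)
    (h12 : ev δ (Sign.rel 12) = 1) (h7 : ev δ (Sign.rel 7) = 1) (h5 : ev δ (Sign.rel 5) = 1)
    (h26 : ev δ (Sign.rel 26) = 1) : ∀ j < 29, Sign.un0 j = true → ev δ (Sign.rel j) = 1 := by
  obtain ⟨⟨g3, s3⟩, ⟨g4, s4⟩, ⟨g5, s5⟩⟩ := good_sq h c
  have s1 := sq_a h c
  have g1 := good_a h c
  have m1 := D.map 1 rfl
  have m3 := D.map 3 rfl
  have m4 := D.map 4 rfl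
  have m5 := D.map 5 rfl
  have m6 := D.map 6 rfl
  have m8 := D.map 8 rfl
  have m10 := D.map 10 rfl
  have i7 : δ 7 = (δ 6)⁻¹ := D.inv 6
  have i9 : δ 9 = (δ 8)⁻¹ := D.inv 8
  have i11 : δ 11 = (δ 10)⁻¹ := D.inv 10
  have q1 := s1 _ m1
  have q3 := s3 _ m3
  have q4 := s4 _ m4
  have q5 := s5 _ m5
  have hr := words_of_relC h.inv h.C
  have hrel : ∀ i < 29, Sign.rel i ∈ relC := by decide
  -- commuting elements downstairs
  have com : ∀ i < 29, ∀ x y : ℕ, Sign.rel i = [invL x, y, x, y] → γ y * γ y = 1 → γ x * γ y = γ y * γ x := by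
    intro i hi x y he hy
    have h1 := hr _ (hrel i hi)
    rw [he] at h1
    simp only [ev_cons, ev_nil, mul_one] at h1
    rw [h.inv x] at h1
    have hyi : (γ y)⁻¹ = γ y := inv_eq_of_mul_eq_one_left hy
    calc γ x * γ y = γ x * γ y * ((γ x)⁻¹ * (γ y * (γ x * γ y)))⁻¹ := by rw [h1]; group
      _ = γ x * (γ y * (γ y)⁻¹ * (γ x)⁻¹) * (γ y)⁻¹ * γ x := by group
      _ = γ y * γ x := by rw [mul_inv_cancel, hyi]; group
  have w1 : γ 1 * γ 1 = 1 := h.aa
  have w3 : γ 3 * γ 3 = 1 := by rw [← pow_two]; exact h.K.c2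
  have w4 : γ 4 * γ 4 = 1 := by rw [← pow_two]; exact h.K.d2
  have w5 : γ 5 * γ 5 = 1 := by rw [← pow_two]; exact h.K.e2
  -- 9 10 14 15 16 17 20 21 22
  have c61 := g1 _ (δ 6) m1 (by rw [m6]; exact com 9 (by norm_num) 6 1 rfl w1)
  have c63 := g3 _ (δ 6) m3 (by rw [m6]; exact com 10 (by norm_num) 6 3 rfl w3)
  have c81 := g1 _ (δ 8) m1 (by rw [m8]; exact com 14 (by norm_num) 8 1 rfl w1)
  have c83 := g3 _ (δ 8) m3 (by rw [m8]; exact com 15 (by norm_num) 8 3 rfl w3)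
  have c84 := g4 _ (δ 8) m4 (by rw [m8]; exact com 16 (by norm_num) 8 4 rfl w4)
  have c85 := g5 _ (δ 8) m5 (by rw [m8]; exact com 17 (by norm_num) 8 5 rfl w5)
  have cu1 := g1 _ (δ 10) m1 (by rw [m10]; exact com 20 (by norm_num) 10 1 rfl w1)
  have cu3 := g3 _ (δ 10) m3 (by rw [m10]; exact com 21 (by norm_num) 10 3 rfl w3)
  have cu5 := g5 _ (δ 10) m5 (by rw [m10]; exact com 22 (by norm_num) 10 5 rfl w5)
  -- 4 6
  have c15 := g5 _ (δ 1) m5 (by rw [m1]; exact com 4 (by norm_num) 1 5 rfl w5)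
  have c35 := g5 _ (δ 3) m5 (by rw [m3]; exact com 6 (by norm_num) 3 5 rfl w5)
  have h7' : δ 6 ^ 7 = 1 := by
    have h8' : δ 6 * (δ 6 * (δ 6 * (δ 6 * (δ 6 * (δ 6 * (δ 6 * 1)))))) = 1 := h8
    calc δ 6 ^ 7 = δ 6 * (δ 6 * (δ 6 * (δ 6 * (δ 6 * (δ 6 * (δ 6 * 1)))))) := by
          simp only [pow_succ, pow_zero, one_mul, mul_assoc, mul_one]
      _ = 1 := h8'
  have h3' : δ 8 ^ 3 = 1 := by
    have h8' : δ 8 * (δ 8 * (δ 8 * 1)) = 1 := h13
    calc δ 8 ^ 3 = δ 8 * (δ 8 * (δ 8 * 1)) := by simp only [pow_succ, pow_zero, one_mul, mul_assoc, mul_one]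
      _ = 1 := h8'
  have conj_pow : ∀ (x y : L) (n : ℕ), y ^ n = 1 → (x * y * x⁻¹) ^ n = 1 := by
    intro x y n hn
    rw [conj_pow, hn, mul_one, mul_inv_cancel]
  -- 11: s d s d = 1
  have r11 : ev δ (Sign.rel 11) = 1 := by
    have h1 := hr _ (hrel 11 (by norm_num))
    have h1 : γ 6 * (γ 4 * (γ 6 * (γ 4 * 1))) = 1 := h1
    show δ 6 * (δ 4 * (δ 6 * (δ 4 * 1))) = 1
    have hd : (δ 4)⁻¹ = δ 4 := inv_eq_of_mul_eq_one_left q4
    have k1 : δ 4 * δ 6 * (δ 4)⁻¹ = (δ 6)⁻¹ := by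
      apply c.pow_unique (n := 7) (by norm_num) (conj_pow _ _ _ h7') (by rw [inv_pow, h7', inv_one])
      simp only [map_mul, map_inv, m4, m6]
      have hd' : (γ 4)⁻¹ = γ 4 := inv_eq_of_mul_eq_one_left w4
      rw [hd', eq_inv_iff_mul_eq_one]
      calc γ 4 * γ 6 * γ 4 * γ 6 = (γ 6)⁻¹ * (γ 6 * (γ 4 * (γ 6 * (γ 4 * 1)))) * γ 6 := by group
        _ = 1 := by rw [h1]; group
    calc δ 6 * (δ 4 * (δ 6 * (δ 4 * 1))) = δ 6 * (δ 4 * δ 6 * (δ 4)⁻¹) := by rw [hd]; group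
      _ = 1 := by rw [k1, mul_inv_cancel]
  -- 18: t⁻¹ s t s⁻¹ s⁻¹ = 1
  have r18 : ev δ (Sign.rel 18) = 1 := by
    have h1 : γ 9 * (γ 6 * (γ 8 * (γ 7 * (γ 7 * 1)))) = 1 := hr _ (hrel 18 (by norm_num))
    show δ 9 * (δ 6 * (δ 8 * (δ 7 * (δ 7 * 1)))) = 1
    have j7 : γ 7 = (γ 6)⁻¹ := h.inv 6
    have j9 : γ 9 = (γ 8)⁻¹ := h.inv 8
    rw [j7, j9] at h1
    rw [i7, i9]
    have k1 : (δ 8)⁻¹ * δ 6 * (δ 8)⁻¹⁻¹ = δ 6 * δ 6 := by
      apply c.pow_unique (n := 7) (by norm_num) (conj_pow _ _ _ h7')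
      · rw [← pow_two, ← pow_mul, mul_comm, pow_mul, h7', one_pow]
      · simp only [map_mul, map_inv, m8, m6, inv_inv]
        calc (γ 8)⁻¹ * γ 6 * γ 8 = (γ 8)⁻¹ * (γ 6 * (γ 8 * ((γ 6)⁻¹ * ((γ 6)⁻¹ * 1)))) * (γ 6 * γ 6) := by group
          _ = γ 6 * γ 6 := by rw [h1, one_mul]
    rw [inv_inv] at k1
    calc (δ 8)⁻¹ * (δ 6 * (δ 8 * ((δ 6)⁻¹ * ((δ 6)⁻¹ * 1)))) = (δ 8)⁻¹ * δ 6 * δ 8 * (δ 6 * δ 6)⁻¹ := by group
      _ = 1 := by rw [k1, mul_inv_cancel]
  -- 24: u⁻¹ t u t = 1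
  have r24 : ev δ (Sign.rel 24) = 1 := by
    have h1 : γ 11 * (γ 8 * (γ 10 * (γ 8 * 1))) = 1 := hr _ (hrel 24 (by norm_num))
    show δ 11 * (δ 8 * (δ 10 * (δ 8 * 1))) = 1
    have j11 : γ 11 = (γ 10)⁻¹ := h.inv 10
    rw [j11] at h1
    rw [i11]
    have k1 : (δ 10)⁻¹ * δ 8 * (δ 10)⁻¹⁻¹ = (δ 8)⁻¹ := by
      apply c.pow_unique (n := 3) (by norm_num) (conj_pow _ _ _ h3') (by rw [inv_pow, h3', inv_one])
      simp only [map_mul, map_inv, m8, m10, inv_inv]
      rw [eq_inv_iff_mul_eq_one]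
      calc (γ 10)⁻¹ * γ 8 * γ 10 * γ 8 = (γ 10)⁻¹ * (γ 8 * (γ 10 * (γ 8 * 1))) := by group
        _ = 1 := h1
    rw [inv_inv] at k1
    calc (δ 10)⁻¹ * (δ 8 * (δ 10 * (δ 8 * 1))) = (δ 10)⁻¹ * δ 8 * δ 10 * δ 8 := by group
      _ = 1 := by rw [k1, inv_mul_cancel]
  -- 25
  have r25 : ev δ (Sign.rel 25) = 1 := by
    have h1 : γ 5 * (γ 7 * (γ 7 * (γ 11 * (γ 6 * (γ 6 * (γ 5 * (γ 7 * (γ 7 * (γ 10 * (γ 6 * (γ 6 * 1))))))))))) = 1 :=
      hr _ (hrel 25 (by norm_num))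
    show δ 5 * (δ 7 * (δ 7 * (δ 11 * (δ 6 * (δ 6 * (δ 5 * (δ 7 * (δ 7 * (δ 10 * (δ 6 * (δ 6 * 1))))))))))) = 1
    have j7 : γ 7 = (γ 6)⁻¹ := h.inv 6
    have j11 : γ 11 = (γ 10)⁻¹ := h.inv 10
    rw [j7, j11] at h1
    rw [i7, i11]
    have k1 : ((δ 6)⁻¹ * (δ 6)⁻¹ * δ 10 * (δ 6 * δ 6)) * δ 5 = δ 5 * ((δ 6)⁻¹ * (δ 6)⁻¹ * δ 10 * (δ 6 * δ 6)) := by
      apply g5 _ _ m5
      simp only [map_mul, map_inv, m6, m10]
      have h5i : (γ 5)⁻¹ = γ 5 := inv_eq_of_mul_eq_one_left w5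
      obtain ⟨w, hw⟩ : ∃ w, w = (γ 6)⁻¹ * (γ 6)⁻¹ * γ 10 * (γ 6 * γ 6) := ⟨_, rfl⟩
      have h2 : γ 5 * w⁻¹ * γ 5 * w = 1 := by
        calc γ 5 * w⁻¹ * γ 5 * w = γ 5 * ((γ 6)⁻¹ * ((γ 6)⁻¹ * ((γ 10)⁻¹ * (γ 6 * (γ 6 * (γ 5 * ((γ 6)⁻¹ *
              ((γ 6)⁻¹ * (γ 10 * (γ 6 * (γ 6 * 1))))))))))) := by
              rw [hw]; simp only [mul_inv_rev, inv_inv, mul_assoc, mul_one]
          _ = 1 := h1
      rw [← hw]
      have h3 : w⁻¹ * γ 5 * w = γ 5 := by
        calc w⁻¹ * γ 5 * w = (γ 5)⁻¹ * (γ 5 * w⁻¹ * γ 5 * w) := by group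
          _ = γ 5 := by rw [h2, mul_one, h5i]
      calc w * γ 5 = w * (w⁻¹ * γ 5 * w) := by rw [h3]
        _ = γ 5 * w := by group
    calc δ 5 * ((δ 6)⁻¹ * ((δ 6)⁻¹ * ((δ 10)⁻¹ * (δ 6 * (δ 6 * (δ 5 * ((δ 6)⁻¹ * ((δ 6)⁻¹ *
          (δ 10 * (δ 6 * (δ 6 * 1)))))))))))
        = δ 5 * ((δ 6)⁻¹ * (δ 6)⁻¹ * δ 10 * (δ 6 * δ 6))⁻¹ *
          (δ 5 * ((δ 6)⁻¹ * (δ 6)⁻¹ * δ 10 * (δ 6 * δ 6))) := by
            simp only [mul_inv_rev, inv_inv, mul_assoc, mul_one]
      _ = δ 5 * ((δ 6)⁻¹ * (δ 6)⁻¹ * δ 10 * (δ 6 * δ 6))⁻¹ *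
          (((δ 6)⁻¹ * (δ 6)⁻¹ * δ 10 * (δ 6 * δ 6)) * δ 5) := by rw [k1]
      _ = δ 5 * δ 5 := by group
      _ = 1 := q5
  intro j hj hu
  interval_cases j
  · show δ 1 * (δ 1 * 1) = 1
    rw [mul_one]; exact q1
  · show δ 3 * (δ 3 * 1) = 1
    rw [mul_one]; exact q3
  · show δ 4 * (δ 4 * 1) = 1
    rw [mul_one]; exact q4
  · show δ 5 * (δ 5 * 1) = 1
    rw [mul_one]; exact q5
  · exact comm4' c15 q1 q5
  · exact h5
  · exact comm4' c35 q3 q5
  · exact h7
  · exact h8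
  · show δ 7 * (δ 1 * (δ 6 * (δ 1 * 1))) = 1
    rw [i7]; exact comm4 c61 q1
  · show δ 7 * (δ 3 * (δ 6 * (δ 3 * 1))) = 1
    rw [i7]; exact comm4 c63 q3
  · exact r11
  · exact h12
  · exact h13
  · show δ 9 * (δ 1 * (δ 8 * (δ 1 * 1))) = 1
    rw [i9]; exact comm4 c81 q1
  · show δ 9 * (δ 3 * (δ 8 * (δ 3 * 1))) = 1
    rw [i9]; exact comm4 c83 q3
  · show δ 9 * (δ 4 * (δ 8 * (δ 4 * 1))) = 1
    rw [i9]; exact comm4 c84 q4
  · show δ 9 * (δ 5 * (δ 8 * (δ 5 * 1))) = 1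
    rw [i9]; exact comm4 c85 q5
  · exact r18
  · exact absurd hu (by decide)
  · show δ 11 * (δ 1 * (δ 10 * (δ 1 * 1))) = 1
    rw [i11]; exact comm4 cu1 q1
  · show δ 11 * (δ 3 * (δ 10 * (δ 3 * 1))) = 1
    rw [i11]; exact comm4 cu3 q3
  · show δ 11 * (δ 5 * (δ 10 * (δ 5 * 1))) = 1
    rw [i11]; exact comm4 cu5 q5
  · exact absurd hu (by decide)
  · exact r24
  · exact r25
  · exact h26
  · exact absurd hu (by decide)
  · exact absurd hu (by decide)

end

end Cfsg.Agent.KFacts.Th.Lift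

end

-- merged: Cfsg.Agent.KFacts.Th.Double
section

/-!
# The Thompson group has no perfect double cover (helper950)
-/

set_option autoImplicit false
set_option maxRecDepth 100000

namespace Cfsg.Agent.KFacts.Th.Double

open Cfsg.Agent.Th.Base Cfsg.Agent.Th.Word Cfsg.Agent.Th.RelWords Cfsg.Agent.Th.PermTab
  Cfsg.Agent.Th.KOracle Cfsg.Agent.Th.KPerm Cfsg.Agent.Th.NineAct Cfsg.Agent.Th.CStruct
  Cfsg.Agent.Th.COracleDef Cfsg.Agent.Th.TabFacts Cfsg.Agent.Th.CertTools Cfsg.Agent.Th.IndexUpper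
open Cfsg.Agent.KFacts.Th.Mask Cfsg.Agent.KFacts.Th.Struct Cfsg.Agent.KFacts.Th.Lift
open Cfsg.Agent.KFacts.MulDef Cfsg.Agent.KFacts.MulTwo

universe u v

variable {G : Type u} [Group G] {L : Type v} [Group L]

/-- the relations of `B` from the words -/
theorem relB_of_words {δ : ℕ → L} (hδ : InvCompat δ) (h : ∀ j < 19, ev δ (Sign.rel j) = 1) :
    RelB (δ 1) (δ 3) (δ 4) (δ 5) (δ 6) (δ 8) := by
  have i1 : (δ 1)⁻¹ = δ 1 := (hδ 1).symm
  have i3 : (δ 3)⁻¹ = δ 3 := (hδ 3).symm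
  have i4 : (δ 4)⁻¹ = δ 4 := (hδ 4).symm
  have i5 : (δ 5)⁻¹ = δ 5 := (hδ 5).symm
  have i6 : (δ 6)⁻¹ = δ 7 := (hδ 6).symm
  have i7 : (δ 7)⁻¹ = δ 6 := (hδ 7).symm
  have i8 : (δ 8)⁻¹ = δ 9 := (hδ 8).symm
  have i9 : (δ 9)⁻¹ = δ 8 := (hδ 9).symm
  have w0 : δ 1 * (δ 1 * 1) = 1 := h 0 (by norm_num)
  have w1 : δ 3 * (δ 3 * 1) = 1 := h 1 (by norm_num)
  have w2 : δ 4 * (δ 4 * 1) = 1 := h 2 (by norm_num)
  have w3 : δ 5 * (δ 5 * 1) = 1 := h 3 (by norm_num)
  have w4 : δ 1 * (δ 5 * (δ 1 * (δ 5 * 1))) = 1 := h 4 (by norm_num)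
  have w5 : δ 1 * (δ 4 * (δ 3 * (δ 4 * (δ 3 * (δ 4 * (δ 3 * (δ 4 * (δ 3 * 1)))))))) = 1 := h 5 (by norm_num)
  have w6 : δ 3 * (δ 5 * (δ 3 * (δ 5 * 1))) = 1 := h 6 (by norm_num)
  have w7 : δ 4 * (δ 5 * (δ 4 * (δ 5 * (δ 4 * (δ 5 * 1))))) = 1 := h 7 (by norm_num)
  have w8 : δ 6 * (δ 6 * (δ 6 * (δ 6 * (δ 6 * (δ 6 * (δ 6 * 1)))))) = 1 := h 8 (by norm_num)
  have w9 : δ 7 * (δ 1 * (δ 6 * (δ 1 * 1))) = 1 := h 9 (by norm_num)
  have w10 : δ 7 * (δ 3 * (δ 6 * (δ 3 * 1))) = 1 := h 10 (by norm_num)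
  have w11 : δ 6 * (δ 4 * (δ 6 * (δ 4 * 1))) = 1 := h 11 (by norm_num)
  have w12 : δ 5 * (δ 7 * (δ 5 * (δ 6 * (δ 7 * (δ 7 * (δ 7 * (δ 5 * (δ 6 * (δ 6 * (δ 6 * 1)))))))))) = 1 :=
    h 12 (by norm_num)
  have w13 : δ 8 * (δ 8 * (δ 8 * 1)) = 1 := h 13 (by norm_num)
  have w14 : δ 9 * (δ 1 * (δ 8 * (δ 1 * 1))) = 1 := h 14 (by norm_num)
  have w15 : δ 9 * (δ 3 * (δ 8 * (δ 3 * 1))) = 1 := h 15 (by norm_num)
  have w16 : δ 9 * (δ 4 * (δ 8 * (δ 4 * 1))) = 1 := h 16 (by norm_num)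
  have w17 : δ 9 * (δ 5 * (δ 8 * (δ 5 * 1))) = 1 := h 17 (by norm_num)
  have w18 : δ 9 * (δ 6 * (δ 8 * (δ 7 * (δ 7 * 1)))) = 1 := h 18 (by norm_num)
  simp only [mul_one] at w0 w1 w2 w3 w4 w5 w6 w7 w8 w9 w10 w11 w12 w13 w14 w15 w16 w17 w18
  refine ⟨?_, ?_, ?_, ?_, ?_, ?_, ?_, ?_, ?_, ⟨?_, ?_, ?_, ?_, ?_, ?_, ?_, ?_, ?_, ?_⟩⟩ <;>
    simp only [pow_succ, pow_zero, one_mul, mul_inv_rev, mul_assoc, i1, i3, i4, i5, i6, i7, i8, i9, inv_inv] <;>
    assumption

section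

variable {γ : ℕ → G} (h : Ctx γ) {π : L →* G} {z : L} (c : Cov π z)
include h c

/-- **lifts with the relations of `C`** -/
theorem exists_relC : ∃ δ : ℕ → L, Lifts π γ δ ∧ RelC (δ 1) (δ 3) (δ 4) (δ 5) (δ 6) (δ 8) (δ 10) := by
  obtain ⟨δ, D, h8, h13, h12, h7, h9, h5, h26⟩ := exists_lifts h c
  have hmost := most h c D h8 h13 h12 h7 h5 h26
  have hB := relB_of_words D.inv (fun j hj => hmost j (by omega) (by
    revert hj; revert j; decide))
  have hz9 : (δ 3 * δ 4 * δ 5 * δ 6) ^ 9 = 1 := by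
    rw [← h9]
    show (δ 3 * δ 4 * δ 5 * δ 6) ^ 9 = ev δ [3,4,5,6,3,4,5,6,3,4,5,6,3,4,5,6,3,4,5,6,3,4,5,6,3,4,5,6,3,4,5,6,3,4,5,6]
    simp only [ev_cons, ev_nil, pow_succ, pow_zero, one_mul, mul_assoc, mul_one]
  obtain ⟨hfB, hcB⟩ := Cfsg.Agent.Th.Bounds.cardB' hB (by rw [hz9]; exact Subgroup.one_mem _)
  rw [← Cfsg.Agent.Th.TabFacts.sub_isB_eq D.inv] at hfB hcB
  have hcG : Nat.card (sub γ isB) = 774144 := Cfsg.Agent.Th.KFacts.card_B h.inv h.K h.cardK
  have hBC : ∀ x, isB x = true → isC x = true := fun x hx => isC_of_isB hx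
  have hmap : (sub δ isB).map π = sub γ isB := by
    unfold sub
    rw [MonoidHom.map_closure]
    congr 1
    ext y
    constructor
    · rintro ⟨_, ⟨x, hx, rfl⟩, rfl⟩
      exact ⟨x, hx, (D.map x (hBC x hx)).symm⟩
    · rintro ⟨x, hx, rfl⟩
      exact ⟨δ x, ⟨x, hx, rfl⟩, D.map x (hBC x hx)⟩
  -- `z` is not in `sub δ isB`
  let ρ : sub δ isB →* sub γ isB := (π.comp (sub δ isB).subtype).codRestrict (sub γ isB) (fun x => by
    rw [← hmap]; exact ⟨x, x.2, rfl⟩)
  have hρ : Function.Surjective ρ := by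
    rintro ⟨y, hy⟩
    rw [← hmap] at hy
    obtain ⟨x, hx, rfl⟩ := hy
    exact ⟨⟨x, hx⟩, rfl⟩
  have hρi : Function.Injective ρ := by
    have h1 : Nat.card (sub δ isB) = Nat.card (sub γ isB) := le_antisymm (by rw [hcG]; exact hcB)
      (Nat.card_le_card_of_surjective ρ hρ)
    exact ((Nat.bijective_iff_surjective_and_card ρ).mpr ⟨hρ, h1⟩).1
  have hz1 : z ∉ sub δ isB := by
    intro hz
    have h1 : ρ ⟨z, hz⟩ = 1 := Subtype.ext ((c.ker z).mpr (Or.inr rfl))
    have h2 : (⟨z, hz⟩ : sub δ isB) = 1 := hρi (by rw [h1, map_one])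
    exact c.ne (congrArg Subtype.val h2)
  -- representatives
  obtain ⟨r, hr0, hr⟩ := Cfsg.Agent.Th.TabC.exists_reps h.C
  choose q hq using fun p => c.surj (r p)
  let r' : ℕ → L := fun p => if p = 0 then 1 else q p
  have hr' : ∀ p, π (r' p) = r p := by
    intro p
    show π (if p = 0 then 1 else q p) = r p
    split_ifs with h0
    · rw [h0, hr0, map_one]
    · exact hq p
  have hstep : ∀ p < 120, ∀ x, isC x = true → r p * γ x * (r (act120 x p))⁻¹ ∈ sub γ isB := by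
    intro p hp x hx
    have i7 : γ 7 = (γ 6)⁻¹ := h.inv 6
    have i9 : γ 9 = (γ 8)⁻¹ := h.inv 8
    have i11 : γ 11 = (γ 10)⁻¹ := h.inv 10
    rw [isC_iff] at hx
    obtain ⟨y, hy, rfl⟩ : ∃ y, y < 10 ∧ x = codeC y := by
      rcases Nat.lt_or_ge x 2 with h1 | h1
      · exact ⟨0, by norm_num, by simp [codeC]; omega⟩
      · refine ⟨x - 2, by omega, ?_⟩
        have : x - 2 ≠ 0 := by omega
        simp only [codeC, cond_eq_ite, Nat.beq_eq, this, if_false]
        show x = (x - 2) + 2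
        omega
    have h1 := hr p hp y hy
    have h2 := Nat.beq_eq.mp ((allB_iff _ _).mp ((allB_iff _ _).mp tabC_check p hp) y hy)
    have h3 : Cfsg.Agent.Th.Bounds.gC (γ 1) (γ 3) (γ 4) (γ 5) (γ 6) (γ 8) (γ 10) y = γ (codeC y) := by
      interval_cases y
      · rfl
      · rfl
      · rfl
      · rfl
      · rfl
      · exact i7.symm
      · rfl
      · exact i9.symm
      · rfl
      · exact i11.symm
    rw [h3, ← h2, ← Cfsg.Agent.Th.TabFacts.sub_isB_eq h.inv] at h1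
    exact h1
  have hrelC : ∀ i < 29, Sign.rel i ∈ relC := by decide
  have hCl : ∀ i < 29, ∀ x ∈ Sign.rel i, isC x = true := by decide
  have hrw := words_of_relC h.inv h.C
  have S : Sign.Data δ r' z ((sub γ isB).comap π) (sub δ isB) :=
    { inv := D.inv
      zz := c.sq
      cen := c.cen
      zB := by rw [Subgroup.mem_comap, (c.ker z).mpr (Or.inr rfl)]; exact Subgroup.one_mem _
      z1 := hz1
      le := by rw [← Subgroup.map_le_iff_le_comap, hmap]
      or_mem := by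
        intro x hx
        rw [Subgroup.mem_comap, ← hmap] at hx
        obtain ⟨y, hy, hyx⟩ := hx
        rcases c.of_eq hyx with h1 | h1
        · left; rw [← h1]; exact hy
        · right; rw [← h1]; exact hy
      r0 := rfl
      step := by
        intro p hp x hx
        rw [Subgroup.mem_comap, map_mul, map_mul, map_inv, hr', hr', D.map x hx]
        exact hstep p hp x hx
      gen := fun x hx => Subgroup.subset_closure ⟨x, hx, rfl⟩
      rel := fun i hi => (c.ker _).mp (by rw [D.ev (hCl i hi)]; exact hrw _ (hrelC i hi)) }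
  have hall := S.all_one hmost
  refine ⟨δ, D, relC_of_words D.inv fun w hw => ?_⟩
  obtain ⟨i, hi, rfl⟩ := List.getElem_of_mem hw
  have h1 := hall i hi
  unfold Sign.rel at h1
  rw [List.getD_eq_getElem _ _ hi] at h1
  exact h1

end

/-- **a group with the structure of `Th` has no perfect double cover** -/
theorem false_of_dbl {γ : ℕ → G} (h : Ctx γ) [Finite L] {π : L →* G} {z : L} (hd : Dbl π z) : False := by
  have c : Cov π z := ⟨hd.surj, hd.ker, hd.ne, hd.sq, hd.cen⟩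
  obtain ⟨δ, D, hC⟩ := exists_relC h c
  have hb := Cfsg.Agent.Th.BoundsC.cardC hC
  rw [← Cfsg.Agent.Th.TabFacts.sub_isC_eq D.inv] at hb
  have hmap : (sub δ isC).map π = sub γ isC := by
    unfold sub
    rw [MonoidHom.map_closure]
    congr 1
    ext y
    constructor
    · rintro ⟨_, ⟨x, hx, rfl⟩, rfl⟩
      exact ⟨x, hx, (D.map x hx).symm⟩
    · rintro ⟨x, hx, rfl⟩
      exact ⟨δ x, ⟨x, hx, rfl⟩, D.map x hx⟩
  let ρ : sub δ isC →* sub γ isC := (π.comp (sub δ isC).subtype).codRestrict (sub γ isC) (fun x => by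
    rw [← hmap]; exact ⟨x, x.2, rfl⟩)
  have hρ : Function.Surjective ρ := by
    rintro ⟨y, hy⟩
    rw [← hmap] at hy
    obtain ⟨x, hx, rfl⟩ := hy
    exact ⟨⟨x, hx⟩, rfl⟩
  have hρi : Function.Injective ρ := by
    have h1 : Nat.card (sub δ isC) = Nat.card (sub γ isC) := le_antisymm (by rw [h.cardC]; exact hb.2)
      (Nat.card_le_card_of_surjective ρ hρ)
    exact ((Nat.bijective_iff_surjective_and_card ρ).mpr ⟨hρ, h1⟩).1
  have hz1 : z ∉ sub δ isC := by
    intro hz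
    have h1 : ρ ⟨z, hz⟩ = 1 := Subtype.ext ((c.ker z).mpr (Or.inr rfl))
    have h2 : (⟨z, hz⟩ : sub δ isC) = 1 := hρi (by rw [h1, map_one])
    exact c.ne (congrArg Subtype.val h2)
  have hzP : z ∈ (sub γ isC).comap π := by
    rw [Subgroup.mem_comap, (c.ker z).mpr (Or.inr rfl)]; exact Subgroup.one_mem _
  refine hd.toCtr.false_of_compl (P := (sub γ isC).comap π) (P₁ := sub δ isC) hzP ?_ hz1 ?_
  · rw [Subgroup.index_comap_of_surjective _ c.surj, h.index_eq]
    norm_num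
  · intro x hx
    rw [Subgroup.mem_comap, ← hmap] at hx
    obtain ⟨y, hy, hyx⟩ := hx
    rcases c.of_eq hyx with h1 | h1
    · left; rw [← h1]; exact hy
    · right; rw [← h1]; exact hy

end Cfsg.Agent.KFacts.Th.Double

end

-- merged: Cfsg.Agent.KFacts.MulSpor.Th
section

/-!
# The 2-part of the multiplier of the Thompson group is trivial (helper950)
-/

set_option autoImplicit false

namespace Cfsg.Agent.KFacts.MulSpor.Th

/-- `Th` has no perfect double cover -/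
theorem noDouble : Cfsg.Agent.KFacts.MulDef.NoDouble Cfsg.Spor.Th :=
  fun _ _ _ _ _ hd => Cfsg.Agent.KFacts.Th.Double.false_of_dbl Cfsg.Agent.KFacts.Th.Main.ctx hd

end Cfsg.Agent.KFacts.MulSpor.Th

end

private theorem dce_0309a71baea5 : _root_.True := by
  try have : _root_.True := by simp only [_root_.Cfsg.Agent.KFacts.Th.Sign.Data.chi.eq_1]
  exact _root_.True.intro
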